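import Groth.Prelude.Def_OmegaPn
import Mathlib.AlgebraicGeometry.IdealSheaf.Functorial

/-! The symmetry of the infinitesimal neighbourhood of the diagonal. -/

set_option linter.style.haveILetI false
set_option backward.isDefEq.respectTransparency false
set_option backward.isDefEq.respectTransparency.types false

universe u

open CategoryTheory CategoryTheory.Limits AlgebraicGeometry TopologicalSpace Opposite

namespace Groth.Agent.PPSheaf

theorem exists_sym {X S : Scheme.{u}} (f : X ⟶ S) (n : ℕ) :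
    ∃ σ : PrinPart.nbhd f n ⟶ PrinPart.nbhd f n,
      σ ≫ PrinPart.nbhdι f n = PrinPart.nbhdι f n ≫ (pullbackSymmetry f f).hom ∧
      σ ≫ σ = 𝟙 (PrinPart.nbhd f n) ∧
      σ ≫ PrinPart.pr1 f n = PrinPart.pr2 f n ∧ σ ≫ PrinPart.pr2 f n = PrinPart.pr1 f n ∧
      PrinPart.toNbhd f n ≫ σ = PrinPart.toNbhd f n := by
  let δ := pullback.diagonal f
  let W := δ.coborderRange
  let d := PrinPart.diagCl f
  let s := (pullbackSymmetry f f).hom
  have hs1 : δ ≫ s = δ := by
    apply pullback.hom_ext <;> simp [δ, s]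
  have hs2 : s ≫ s = 𝟙 _ := by
    apply pullback.hom_ext <;> simp [s]
  have hss : ∀ p, s (s p) = p := fun p => by rw [← Scheme.Hom.comp_apply, hs2]; rfl
  have hrange : ⇑s ⁻¹' Set.range δ = Set.range δ := by
    ext p
    constructor
    · rintro ⟨x, hx⟩
      exact ⟨x, by rw [← hss p, ← hx, ← Scheme.Hom.comp_apply, hs1]⟩
    · rintro ⟨x, rfl⟩
      exact ⟨x, by rw [← Scheme.Hom.comp_apply, hs1]⟩
  let e := Scheme.homeoOfIso (pullbackSymmetry f f)
  have hcob : ∀ p, p ∈ W → s p ∈ W := by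
    intro p hp
    have h1 : ⇑s ⁻¹' closure (Set.range δ) =
        closure (Set.range δ) := by
      have h := e.preimage_closure (Set.range δ)
      exact h.trans (congrArg closure hrange)
    change p ∈ coborder (Set.range δ) at hp
    change s p ∈ coborder (Set.range δ)
    rw [coborder, Set.mem_compl_iff] at hp ⊢
    rintro ⟨hc, hr⟩
    exact hp ⟨h1 ▸ hc, fun h => hr (hrange.symm ▸ h : p ∈ _ ⁻¹' Set.range δ)⟩
  let sW : (W : Scheme.{u}) ⟶ W := IsOpenImmersion.lift W.ι (W.ι ≫ s) (by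
    rintro _ ⟨p, rfl⟩
    rw [Scheme.Opens.range_ι]
    exact hcob _ p.2)
  have hsW : sW ≫ W.ι = W.ι ≫ s := IsOpenImmersion.lift_fac _ _ _
  have hd : d ≫ sW = d := by
    rw [← cancel_mono W.ι, Category.assoc, hsW, ← Category.assoc, δ.liftCoborder_ι, hs1]
  have hsW2 : sW ≫ sW = 𝟙 _ := by
    rw [← cancel_mono W.ι, Category.assoc, hsW, ← Category.assoc, hsW, Category.assoc, hs2, Category.comp_id,
      Category.id_comp]
  haveI : IsIso sW := ⟨sW, hsW2, hsW2⟩
  let K := d.ker ^ (n + 1)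
  have hK : K ≤ (K.subschemeι ≫ sW).ker := by
    intro U a ha
    rw [Scheme.Hom.ker_apply, RingHom.mem_ker, Scheme.Hom.comp_app, CommRingCat.comp_apply]
    let V : (W : Scheme.{u}).affineOpens := ⟨sW ⁻¹ᵁ U.1, U.2.preimage sW⟩
    have hmem : sW.app U.1 a ∈ K.ideal V := by
      rw [Scheme.IdealSheafData.ideal_pow, Pi.pow_apply] at ha ⊢
      have h1 : (d.ker.ideal U) ≤ (d.ker.ideal V).comap (sW.app U.1).hom := fun b hb => by
        rw [Scheme.Hom.ker_apply, RingHom.mem_ker] at hb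
        rw [Ideal.mem_comap, Scheme.Hom.ker_apply, RingHom.mem_ker]
        show (sW.app U.1 ≫ d.app (sW ⁻¹ᵁ U.1)) b = 0
        rw [← Scheme.Hom.comp_app, Scheme.Hom.congr_app hd U.1, CommRingCat.comp_apply]
        exact (congrArg _ hb).trans (map_zero _)
      exact (Ideal.le_comap_pow (sW.app U.1).hom (n + 1)) (Ideal.pow_right_mono h1 (n + 1) ha)
    rw [← K.ker_subschemeι_app V] at hmem
    exact hmem
  haveI : IsClosedImmersion (PrinPart.infNbhdι d n) := inferInstanceAs (IsClosedImmersion K.subschemeι)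
  obtain ⟨σ, hσ⟩ : ∃ σ : PrinPart.nbhd f n ⟶ PrinPart.nbhd f n,
      σ ≫ PrinPart.infNbhdι d n = PrinPart.infNbhdι d n ≫ sW :=
    ⟨IsClosedImmersion.lift K.subschemeι (K.subschemeι ≫ sW) (by rw [Scheme.IdealSheafData.ker_subschemeι]; exact hK),
      IsClosedImmersion.lift_fac _ _ _⟩
  have h0 : σ ≫ PrinPart.nbhdι f n = PrinPart.nbhdι f n ≫ s := by
    show σ ≫ PrinPart.infNbhdι d n ≫ W.ι = (PrinPart.infNbhdι d n ≫ W.ι) ≫ s
    rw [reassoc_of% hσ, hsW, Category.assoc]
  refine ⟨σ, h0, ?_, ?_, ?_, ?_⟩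
  · rw [← cancel_mono (PrinPart.infNbhdι d n), Category.assoc, hσ, ← Category.assoc, hσ, Category.assoc, hsW2,
      Category.comp_id, Category.id_comp]
  · show σ ≫ PrinPart.nbhdι f n ≫ pullback.fst f f = PrinPart.nbhdι f n ≫ pullback.snd f f
    rw [reassoc_of% h0, pullbackSymmetry_hom_comp_fst]
  · show σ ≫ PrinPart.nbhdι f n ≫ pullback.snd f f = PrinPart.nbhdι f n ≫ pullback.fst f f
    rw [reassoc_of% h0, pullbackSymmetry_hom_comp_snd]
  · rw [← cancel_mono (PrinPart.infNbhdι d n), Category.assoc, hσ]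
    show PrinPart.toInfNbhd d n ≫ PrinPart.infNbhdι d n ≫ sW = PrinPart.toInfNbhd d n ≫ PrinPart.infNbhdι d n
    rw [PrinPart.toInfNbhd_ι_assoc, PrinPart.toInfNbhd_ι, hd]

end Groth.Agent.PPSheaf
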