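import Groth.Agent.PPSheaf.PushColim
import Groth.Agent.PPSheaf.Sym
import Groth.Agent.PPSheaf.Gen
import Groth.Agent.QCoh.Qcqs
import Groth.Agent.PicClLib.Basic
import Groth.Agent.KFlatLib.Scheme.PushKInj
import Groth.Prelude.Def_FlatMod2
import Mathlib.Algebra.Homology.ShortComplex.ExactFunctor

/-! Flatness of the two projections of the infinitesimal neighbourhood. -/

set_option linter.style.haveILetI false
set_option linter.unusedSectionVars false
set_option backward.isDefEq.respectTransparency false
set_option backward.isDefEq.respectTransparency.types false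

universe u

open CategoryTheory CategoryTheory.Limits AlgebraicGeometry TopologicalSpace Opposite

namespace Groth.Agent.PPSheaf

open Groth.Agent.Synt29.OmegaStalk

theorem flat_pr1 {X S : Scheme.{u}} (f : X ⟶ S) (n : ℕ) (hP : FlatMod.IsFlat (PrinPart.P f n)) :
    Flat (PrinPart.pr1 f n) := by
  rw [Flat.iff_flat_stalkMap]
  intro z
  let p := PrinPart.pr1 f n
  let N := (Scheme.Modules.pullback (PrinPart.pr2 f n)).obj (Coh.structureModule X)
  let O := Coh.structureModule (PrinPart.nbhd f n)
  haveI := TopCat.Presheaf.stalkPushforward.stalkPushforward_iso_of_isInducing Ab.{u}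
    (f := p.base) (pr1Homeo f n).isInducing N.presheaf z
  let Ψ : St (PrinPart.P f n) (p z) →+ St N z := (TopCat.Presheaf.stalkPushforward Ab.{u} p.base N.presheaf z).hom
  have hΨb : Function.Bijective Ψ := ConcreteCategory.bijective_of_isIso _
  have hΨ : ∀ (a : X.presheaf.stalk (p z)) (m : St (PrinPart.P f n) (p z)), Ψ (a • m) = p.stalkMap z a • Ψ m := by
    intro a m
    obtain ⟨U, hU, t, rfl⟩ := gm_surjective (PrinPart.P f n) m
    obtain ⟨W, hW, b, rfl⟩ := X.presheaf.exists_germ_eq a
    let U' := U ⊓ W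
    have hx : p z ∈ U' := ⟨hU, hW⟩
    let b' : Γ(X, U') := X.presheaf.map (homOfLE inf_le_right).op b
    let t' : Γ(PrinPart.P f n, U') := (PrinPart.P f n).presheaf.map (homOfLE inf_le_left).op t
    have hb : X.presheaf.germ W (p z) hW b = X.presheaf.germ U' (p z) hx b' :=
      (X.presheaf.germ_res_apply _ _ _ _).symm
    have ht : gm (PrinPart.P f n) hU t = gm (PrinPart.P f n) hx t' := (gm_res _ _ hx t).symm
    have hg : ∀ (V : X.Opens) (hV : p z ∈ V) (s : Γ(PrinPart.P f n, V)),
        Ψ (gm (PrinPart.P f n) hV s) = gm N (show z ∈ p ⁻¹ᵁ V from hV) s := fun V hV s =>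
      congr($(TopCat.Presheaf.stalkPushforward_germ Ab.{u} p.base N.presheaf V z hV) s)
    rw [hb, ht, ← gm_smul, hg, hg, Scheme.Hom.germ_stalkMap_apply, ← gm_smul]
    exact congrArg (gm N _) (QCoh.pushforward_smul p U' b' t')
  obtain ⟨eN⟩ := PicClLib.nonempty_pullback_structureModule (PrinPart.pr2 f n)
  let E := ((DerSch.stalkFunctor (PrinPart.nbhd f n) z).mapIso eN).toLinearEquiv
  -- the stalk of the structure module is the local ring
  let one : St O z := gm O (show z ∈ (⊤ : (PrinPart.nbhd f n).Opens) from trivial)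
    (show Γ(O, ⊤) from (1 : Γ(PrinPart.nbhd f n, ⊤)))
  have hone : ∀ (W : (PrinPart.nbhd f n).Opens) (hW : z ∈ W) (r : Γ(PrinPart.nbhd f n, W)),
      (PrinPart.nbhd f n).presheaf.germ W z hW r • one = gm O hW (show Γ(O, W) from r) := fun W hW r => by
    rw [show one = gm O hW (O.presheaf.map (homOfLE le_top).op
      (show Γ(O, ⊤) from (1 : Γ(PrinPart.nbhd f n, ⊤)))) from (gm_res O _ hW _).symm, ← gm_smul]
    congr 1
    show r * (PrinPart.nbhd f n).presheaf.map _ 1 = r
    rw [map_one, mul_one]
  let J : St O z ≃ₗ[(PrinPart.nbhd f n).presheaf.stalk z] (PrinPart.nbhd f n).presheaf.stalk z :=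
    (LinearEquiv.ofBijective (LinearMap.toSpanSingleton _ _ one) ⟨(injective_iff_map_eq_zero _).2 fun a ha => by
      obtain ⟨W, hW, r, rfl⟩ := (PrinPart.nbhd f n).presheaf.exists_germ_eq a
      rw [LinearMap.toSpanSingleton_apply, hone W hW r, ← map_zero (gm O hW)] at ha
      obtain ⟨W', hW', i, j, h⟩ := O.presheaf.germ_eq z hW hW _ _ ha
      rw [map_zero] at h
      rw [← (PrinPart.nbhd f n).presheaf.germ_res_apply i z hW',
        show (PrinPart.nbhd f n).presheaf.map i.op r = 0 from h, map_zero],
    fun m => by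
      obtain ⟨W, hW, r, rfl⟩ := gm_surjective O m
      exact ⟨(PrinPart.nbhd f n).presheaf.germ W z hW r, (LinearMap.toSpanSingleton_apply _ _ _ _).trans (hone W hW r)⟩⟩).symm
  letI : Algebra (X.presheaf.stalk (p z)) ((PrinPart.nbhd f n).presheaf.stalk z) := (p.stalkMap z).hom.toAlgebra
  let L : St (PrinPart.P f n) (p z) →ₗ[X.presheaf.stalk (p z)] (PrinPart.nbhd f n).presheaf.stalk z :=
    { toFun := fun m => J (E (Ψ m))
      map_add' := fun a b => by rw [map_add, map_add, map_add]
      map_smul' := fun a m => by rw [hΨ, map_smul, map_smul]; rfl }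
  haveI : Module.Flat (X.presheaf.stalk (p z)) (St (PrinPart.P f n) (p z)) := hP (p z)
  exact Module.Flat.of_linearEquiv
    (LinearEquiv.ofBijective L (J.bijective.comp (E.bijective.comp hΨb))).symm

theorem flat_pr2 {X S : Scheme.{u}} (f : X ⟶ S) (n : ℕ) (hP : FlatMod.IsFlat (PrinPart.P f n)) :
    Flat (PrinPart.pr2 f n) := by
  obtain ⟨σ, -, h2, h3, -, -⟩ := exists_sym f n
  haveI : IsIso σ := ⟨σ, h2, h2⟩
  haveI := flat_pr1 f n hP
  rw [← h3]
  infer_instance

theorem preservesFiniteLimits_pullback {X Y : Scheme.{u}} (g : X ⟶ Y) [Flat g] :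
    PreservesFiniteLimits (Scheme.Modules.pullback g) := by
  haveI := (Scheme.Modules.pullbackPushforwardAdjunction g).leftAdjoint_preservesColimits
  haveI : (Scheme.Modules.pullback g).Additive := Functor.additive_of_preserves_binary_products _
  have h : PreservesFiniteLimits (Scheme.Modules.pullback g) ∧ PreservesFiniteColimits (Scheme.Modules.pullback g) :=
    ((Functor.exact_tfae (Scheme.Modules.pullback g)).out 1 3 rfl rfl).1
      fun S hS => KFlatLib.exact_map_pullback g hS
  exact h.1

end Groth.Agent.PPSheaf
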