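import Groth.Agent.OmegaLib.IdealMod
import Groth.Agent.QCoh.VanIdeal
import Groth.Agent.QCoh.Qcqs
import Groth.Agent.QCoh.RpushCoh
import Groth.Agent.ZClosLib.CohDescent
import Groth.Prelude.Def_OmegaPn
import Mathlib.AlgebraicGeometry.Morphisms.FinitePresentation

/-! Powers of the ideal of a closed immersion of finite presentation. -/

set_option linter.style.haveILetI false
set_option backward.isDefEq.respectTransparency false
set_option backward.isDefEq.respectTransparency.types false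
set_option autoImplicit false

universe u

open CategoryTheory CategoryTheory.Limits AlgebraicGeometry TopologicalSpace Opposite

namespace Groth.Agent.PPSheaf.GrCoh

theorem isQCoh_idealMod {X : Scheme.{u}} (K : X.IdealSheafData) : Coh.IsQCoh (ClSub.idealMod K) :=
  QCoh.isQCoh_kernel QCoh.isQCoh_structureModule
    (QCoh.isQCoh_pushforward K.subschemeι QCoh.isQCoh_structureModule) _

theorem isCoh_idealMod {X : Scheme.{u}} (K : X.IdealSheafData) (h : ∀ U : X.affineOpens, (K.ideal U).FG) :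
    Coh.IsCoh (ClSub.idealMod K) := by
  refine ⟨isQCoh_idealMod K, QCoh.isFT_of_affine_finite (isQCoh_idealMod K) fun V hV => ?_⟩
  haveI : Module.Finite Γ(X, V) (K.ideal ⟨V, hV⟩) := Module.Finite.iff_fg.mpr (h ⟨V, hV⟩)
  let l : Γ(ClSub.idealMod K, V) →ₗ[Γ(X, V)] K.ideal ⟨V, hV⟩ :=
    { toFun := fun k => ⟨OmegaSh.idealSect K V k, OmegaLib.idealSect_mem K ⟨V, hV⟩ k⟩
      map_add' := fun k k' => Subtype.ext (map_add (OmegaSh.idealSect K V) k k')
      map_smul' := fun r k => Subtype.ext (OmegaLib.idealSect_smul K V r k) }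
  have hl : Function.Bijective l := by
    refine ⟨fun k k' e => OmegaLib.idealSect_injective K V (congrArg Subtype.val e), fun a => ?_⟩
    obtain ⟨k, hk⟩ := OmegaLib.exists_idealSect_eq K V a.1 (by
      exact RingHom.mem_ker.mp ((K.ker_subschemeι_app ⟨V, hV⟩).ge a.2))
    exact ⟨k, Subtype.ext hk⟩
  exact Module.Finite.equiv (LinearEquiv.ofBijective l hl).symm

theorem fg_ker {Y X : Scheme.{u}} (f : Y ⟶ X) [IsClosedImmersion f] [LocallyOfFinitePresentation f]
    (U : X.affineOpens) : (f.ker.ideal U).FG := by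
  rw [Scheme.Hom.ker_apply]
  have hW : IsAffineOpen (f ⁻¹ᵁ U.1) := U.2.preimage f
  have hfp := HasRingHomProperty.appLE @LocallyOfFinitePresentation f ‹_› U ⟨f ⁻¹ᵁ U.1, hW⟩ le_rfl
  rw [← Scheme.Hom.app_eq_appLE] at hfp
  have hs : Function.Surjective (f.app U.1) :=
    f.app_surjective U.1 U.2
  algebraize [(f.app U.1).hom]
  haveI : Algebra.FinitePresentation Γ(X, U.1) Γ(Y, f ⁻¹ᵁ U.1) := hfp
  exact Algebra.FinitePresentation.ker_fG_of_surjective (Algebra.ofId Γ(X, U.1) Γ(Y, f ⁻¹ᵁ U.1)) hs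

theorem isCoh_grMod {Y X : Scheme.{u}} (f : Y ⟶ X) [IsClosedImmersion f] [LocallyOfFinitePresentation f]
    (n : ℕ) : Coh.IsCoh (PrinPart.grMod f n) :=
  ZClosLib.isCoh_pullback f (isCoh_idealMod _ fun U => by
    rw [Scheme.IdealSheafData.ideal_pow, Pi.pow_apply]
    exact (fg_ker f U).pow)

end Groth.Agent.PPSheaf.GrCoh
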