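import Groth.Prelude.Def_Omega4

/-! Sections of the pullback along the identity. -/

set_option backward.isDefEq.respectTransparency false
set_option backward.isDefEq.respectTransparency.types false

universe u

open CategoryTheory CategoryTheory.Limits AlgebraicGeometry TopologicalSpace Opposite

namespace Groth.Agent.PPSheaf

variable {X : Scheme.{u}} (M : X.Modules) (U : X.Opens) (t : Γ(M, U))

theorem pullbackId_hom_pullSect :
    ((Scheme.Modules.pullbackId X).hom.app M).app U (OmegaSh.pullSect (𝟙 X) M U t) = t := by
  have h := unit_conjugateEquiv Adjunction.id (Scheme.Modules.pullbackPushforwardAdjunction (𝟙 X))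
    (Scheme.Modules.pullbackId X).hom M
  rw [Scheme.Modules.conjugateEquiv_pullbackId_hom] at h
  have h2 := congrArg (fun k => (Scheme.Modules.Hom.app k U) t) h
  exact h2.symm

theorem pullbackId_inv_app :
    ((Scheme.Modules.pullbackId X).inv.app M).app U t = OmegaSh.pullSect (𝟙 X) M U t := by
  conv_lhs => rw [← pullbackId_hom_pullSect M U t]
  exact congr(Scheme.Modules.Hom.app $(Iso.hom_inv_id_app (Scheme.Modules.pullbackId X) M) U
    (OmegaSh.pullSect (𝟙 X) M U t))

end Groth.Agent.PPSheaf
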