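import Groth.Agent.Synt29.ConormalBC
import Groth.Agent.Synt29.ConormalExact
import Groth.Agent.FComplLib.IdealComap

/-! Stalks of the graded pieces of an immersion and of their base change. -/

set_option linter.style.haveILetI false
set_option linter.unusedSectionVars false
set_option backward.isDefEq.respectTransparency false
set_option backward.isDefEq.respectTransparency.types false
set_option autoImplicit false

universe u

open CategoryTheory CategoryTheory.Limits AlgebraicGeometry TopologicalSpace Opposite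
open scoped TensorProduct

namespace Groth.Agent.PPSheaf.GrStalk

open Groth.Agent.Synt29 OmegaStalk Groth.Agent.KFlatLib

variable {X : Scheme.{u}} (K : X.IdealSheafData)

/-- a germ of the module of `K` and its function -/
def Rep (y : X) (m : St (ClSub.idealMod K) y) (a : X.presheaf.stalk y) : Prop :=
  ∃ (U : X.Opens) (hy : y ∈ U) (k : Γ(ClSub.idealMod K, U)),
    gm (ClSub.idealMod K) hy k = m ∧ X.presheaf.germ U y hy (OmegaSh.idealSect K U k) = a

theorem rep_inj {y : X} {m m' : St (ClSub.idealMod K) y} {a : X.presheaf.stalk y} (h : Rep K y m a)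
    (h' : Rep K y m' a) : m = m' := by
  obtain ⟨U, hy, k, rfl, hk⟩ := h
  obtain ⟨U', hy', k', rfl, hk'⟩ := h'
  obtain ⟨W, hyW, j, j', e⟩ := X.presheaf.germ_eq y hy hy' _ _ (hk.trans hk'.symm)
  rw [show j = homOfLE (leOfHom j) from rfl, show j' = homOfLE (leOfHom j') from rfl] at e
  erw [← OmegaLib.idealSect_map, ← OmegaLib.idealSect_map] at e
  have := OmegaLib.idealSect_injective K W e
  rw [← gm_res _ j hyW, ← gm_res _ j' hyW]
  exact congrArg (gm (ClSub.idealMod K) hyW) this

theorem rep_exists (y : X) (m : St (ClSub.idealMod K) y) : ∃ a, Rep K y m a := by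
  obtain ⟨U, hy, k, rfl⟩ := gm_surjective (ClSub.idealMod K) m
  exact ⟨_, U, hy, k, rfl, rfl⟩

theorem rep_unique {y : X} {m : St (ClSub.idealMod K) y} {a a' : X.presheaf.stalk y}
    (h : Rep K y m a) (h' : Rep K y m a') : a = a' := by
  obtain ⟨U, hy, k, rfl, rfl⟩ := h
  obtain ⟨U', hy', k', hk', rfl⟩ := h'
  obtain ⟨W, hyW, j, j', e⟩ := (ClSub.idealMod K).presheaf.germ_eq y hy hy' _ _ hk'.symm
  rw [← X.presheaf.germ_res_apply j y hyW, ← X.presheaf.germ_res_apply j' y hyW]
  congr 1
  rw [show j = homOfLE (leOfHom j) from rfl, show j' = homOfLE (leOfHom j') from rfl,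
    ← OmegaLib.idealSect_map, ← OmegaLib.idealSect_map]
  exact congrArg (OmegaSh.idealSect K W) e

theorem rep_zero (y : X) : Rep K y 0 0 :=
  ⟨⊤, trivial, 0, map_zero _, by rw [map_zero, map_zero]⟩

theorem rep_add {y : X} {m m' : St (ClSub.idealMod K) y} {a a' : X.presheaf.stalk y} (h : Rep K y m a)
    (h' : Rep K y m' a') : Rep K y (m + m') (a + a') := by
  obtain ⟨U, hy, k, rfl, rfl⟩ := h
  obtain ⟨U', hy', k', rfl, rfl⟩ := h'
  have hyy : y ∈ U ⊓ U' := ⟨hy, hy'⟩
  refine ⟨U ⊓ U', hyy, (ClSub.idealMod K).presheaf.map (homOfLE inf_le_left).op k +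
    (ClSub.idealMod K).presheaf.map (homOfLE inf_le_right).op k', ?_, ?_⟩
  · rw [map_add, gm_res, gm_res]
  · rw [map_add, OmegaLib.idealSect_map, OmegaLib.idealSect_map, map_add,
      X.presheaf.germ_res_apply, X.presheaf.germ_res_apply]

theorem rep_smul {y : X} {m : St (ClSub.idealMod K) y} {a : X.presheaf.stalk y} (h : Rep K y m a)
    (c : X.presheaf.stalk y) : Rep K y (c • m) (c * a) := by
  obtain ⟨U, hy, k, rfl, rfl⟩ := h
  obtain ⟨U', hy', r, rfl⟩ := X.presheaf.exists_germ_eq (x := y) c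
  have hyy : y ∈ U ⊓ U' := ⟨hy, hy'⟩
  let r' : Γ(X, U ⊓ U') := X.presheaf.map (homOfLE (inf_le_right : U ⊓ U' ≤ U')).op r
  let k' : Γ(ClSub.idealMod K, U ⊓ U') :=
    (ClSub.idealMod K).presheaf.map (homOfLE (inf_le_left : U ⊓ U' ≤ U)).op k
  refine ⟨U ⊓ U', hyy, r' • k', ?_, ?_⟩
  · rw [gm_smul, gm_res, X.presheaf.germ_res_apply]
  · rw [OmegaLib.idealSect_smul, OmegaLib.idealSect_map, map_mul,
      X.presheaf.germ_res_apply, X.presheaf.germ_res_apply]

/-- the stalk of `K` as an ideal of the local ring -/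
noncomputable def stI (y : X) : Ideal (X.presheaf.stalk y) where
  carrier := {a | ∃ m, Rep K y m a}
  zero_mem' := ⟨0, rep_zero K y⟩
  add_mem' := fun ⟨m, h⟩ ⟨m', h'⟩ => ⟨m + m', rep_add K h h'⟩
  smul_mem' := fun c _ ⟨m, h⟩ => ⟨c • m, rep_smul K h c⟩

theorem stI_eq_map (y : X) (V : X.affineOpens) (hy : y ∈ V.1) :
    stI K y = (K.ideal V).map (X.presheaf.germ V.1 y hy).hom := by
  refine le_antisymm ?_ (Ideal.map_le_iff_le_comap.2 fun r hr => ?_)
  · rintro a ⟨m, U, hyU, k, rfl, rfl⟩
    obtain ⟨_, ⟨W, hW, rfl⟩, hyW, hWUV⟩ :=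
      X.isBasis_affineOpens.exists_subset_of_mem_open (show y ∈ U ⊓ V.1 from ⟨hyU, hy⟩) (U ⊓ V.1).2
    have hWU : W ≤ U := fun z hz => (hWUV hz).1
    have hWV : W ≤ V.1 := fun z hz => (hWUV hz).2
    have h1 := OmegaLib.idealSect_mem K ⟨W, hW⟩
      ((ClSub.idealMod K).presheaf.map (homOfLE hWU).op k)
    rw [OmegaLib.idealSect_map, ← K.map_ideal (U := ⟨W, hW⟩) (V := V) hWV] at h1
    have h2 := Ideal.mem_map_of_mem (X.presheaf.germ W y hyW).hom h1
    rw [Ideal.map_map, ← CommRingCat.hom_comp] at h2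
    erw [X.presheaf.germ_res (homOfLE hWV) y hyW, X.presheaf.germ_res_apply (homOfLE hWU) y hyW] at h2
    exact h2
  · have h0 : K.subschemeι.app V.1 r = 0 := by
      rw [← RingHom.mem_ker, K.ker_subschemeι_app]; exact hr
    obtain ⟨k, hk⟩ := OmegaLib.exists_idealSect_eq K V.1 r h0
    exact ⟨_, V.1, hy, k, rfl, by rw [hk]⟩

theorem stI_pow (y : X) (n : ℕ) : stI (K ^ n) y = stI K y ^ n := by
  obtain ⟨_, ⟨W, hW, rfl⟩, hyW, -⟩ :=
    X.isBasis_affineOpens.exists_subset_of_mem_open (show y ∈ (⊤ : X.Opens) from trivial) (⊤ : X.Opens).2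
  rw [stI_eq_map _ y ⟨W, hW⟩ hyW, stI_eq_map _ y ⟨W, hW⟩ hyW, ← Ideal.map_pow,
    Scheme.IdealSheafData.ideal_pow]
  rfl

/-- the function of a germ of the module, as a linear map -/
noncomputable def val (y : X) : St (ClSub.idealMod K) y →ₗ[X.presheaf.stalk y] X.presheaf.stalk y where
  toFun m := (rep_exists K y m).choose
  map_add' m m' := rep_unique K (rep_exists K y (m + m')).choose_spec
    (rep_add K (rep_exists K y m).choose_spec (rep_exists K y m').choose_spec)
  map_smul' r m := rep_unique K (rep_exists K y (r • m)).choose_spec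
    (rep_smul K (rep_exists K y m).choose_spec r)

theorem rep_val (y : X) (m : St (ClSub.idealMod K) y) : Rep K y m (val K y m) :=
  (rep_exists K y m).choose_spec

theorem val_injective (y : X) : Function.Injective (val K y) := fun m m' e =>
  rep_inj K (rep_val K y m) (show Rep K y m' (val K y m) by rw [e]; exact rep_val K y m')

theorem val_gm {U : X.Opens} {y : X} (hy : y ∈ U) (k : Γ(ClSub.idealMod K, U)) :
    val K y (gm (ClSub.idealMod K) hy k) = X.presheaf.germ U y hy (OmegaSh.idealSect K U k) :=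
  rep_unique K (rep_val K y _) ⟨U, hy, k, rfl, rfl⟩

theorem range_val (y : X) : LinearMap.range (val K y) = stI K y := by
  refine le_antisymm ?_ fun a ⟨m, h⟩ => ⟨m, rep_unique K (rep_val K y m) h⟩
  rintro _ ⟨m, rfl⟩
  exact ⟨m, rep_val K y m⟩

theorem val_mem (y : X) (m : St (ClSub.idealMod K) y) : val K y m ∈ stI K y := ⟨m, rep_val K y m⟩

section Immersion

variable {Z : Scheme.{u}} (i : Z ⟶ X) [IsImmersion i] [QuasiCompact i]

theorem stI_ker (x : Z) : stI i.ker (i x) = RingHom.ker (i.stalkMap x).hom := by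
  ext a
  constructor
  · rintro ⟨m, h⟩
    exact RingHom.mem_ker.2 (ConormalStalk.rep_mem i h)
  · intro ha
    obtain ⟨m, hm⟩ := ConormalStalk.exists_rep i (RingHom.mem_ker.1 ha)
    exact ⟨m, hm⟩

theorem stI_ker_pow (x : Z) (n : ℕ) :
    stI (i.ker ^ n) (i x) = RingHom.ker (i.stalkMap x).hom ^ n := by
  rw [stI_pow, stI_ker]

variable (n : ℕ)

/-- `1 ⊗ m` in the stalk of the graded piece -/
noncomputable def unitN (x : Z) :
    St (ClSub.idealMod (i.ker ^ n)) (i x) →+
      (ModuleCat.extendScalars (i.stalkMap x).hom).obj (St (ClSub.idealMod (i.ker ^ n)) (i x)) :=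
  ((ModuleCat.extendRestrictScalarsAdj (i.stalkMap x).hom).unit.app
    (St (ClSub.idealMod (i.ker ^ n)) (i x))).hom.toAddMonoidHom

theorem unitN_smul (x : Z) (a : X.presheaf.stalk (i x)) (m : St (ClSub.idealMod (i.ker ^ n)) (i x)) :
    unitN i n x (a • m) = i.stalkMap x a • unitN i n x m :=
  map_smul ((ModuleCat.extendRestrictScalarsAdj (i.stalkMap x).hom).unit.app
    (St (ClSub.idealMod (i.ker ^ n)) (i x))).hom a m

theorem unitN_surjective (x : Z) : Function.Surjective (unitN i n x) := by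
  intro z
  let _ := (i.stalkMap x).hom.toAlgebra
  change (Z.presheaf.stalk x) ⊗[X.presheaf.stalk (i x)] (St (ClSub.idealMod (i.ker ^ n)) (i x)) at z
  induction z using TensorProduct.induction_on with
  | zero => exact ⟨0, map_zero _⟩
  | tmul b m =>
      obtain ⟨a, ha⟩ := i.stalkMap_surjective x b
      refine ⟨a • m, (unitN_smul i n x a m).trans ?_⟩
      rw [ha]
      show (b * 1) ⊗ₜ[X.presheaf.stalk (i x)] m = b ⊗ₜ[X.presheaf.stalk (i x)] m
      rw [mul_one]
  | add z w ihz ihw =>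
      obtain ⟨m, hm⟩ := ihz
      obtain ⟨m', hm'⟩ := ihw
      exact ⟨m + m', (map_add _ m m').trans (congrArg₂ (· + ·) hm hm')⟩

/-- the kernel of `m ↦ 1 ⊗ m` -/
theorem unitN_eq_zero_iff (x : Z) (m : St (ClSub.idealMod (i.ker ^ n)) (i x)) :
    unitN i n x m = 0 ↔ val (i.ker ^ n) (i x) m ∈ RingHom.ker (i.stalkMap x).hom ^ (n + 1) := by
  let A := X.presheaf.stalk (i x)
  let J := RingHom.ker (i.stalkMap x).hom
  let v := val (i.ker ^ n) (i x)
  have hv : ∀ m, v m ∈ J ^ n := fun m => by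
    show v m ∈ RingHom.ker (i.stalkMap x).hom ^ n
    rw [← stI_ker_pow i x n]; exact val_mem _ _ m
  constructor
  · intro h0
    let s : Z.presheaf.stalk x → A := Function.surjInv (i.stalkMap_surjective x)
    have hs : ∀ b, i.stalkMap x (s b) = b := Function.surjInv_eq (i.stalkMap_surjective x)
    let π : A →+* A ⧸ J ^ (n + 1) := Ideal.Quotient.mk _
    have hmul : ∀ (a b : A) m', i.stalkMap x a = i.stalkMap x b →
        π (a * v m') = π (b * v m') := fun a b m' e => by
      refine Ideal.Quotient.eq.mpr ?_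
      rw [← sub_mul, pow_succ']
      exact Ideal.mul_mem_mul (RingHom.mem_ker.mpr (by rw [map_sub]; exact sub_eq_zero.mpr e)) (hv m')
    let _ := (i.stalkMap x).hom.toAlgebra
    let Φ : (Z.presheaf.stalk x) ⊗[A] (St (ClSub.idealMod (i.ker ^ n)) (i x)) →ₗ[A] A ⧸ J ^ (n + 1) :=
      TensorProduct.lift (LinearMap.mk₂ A (fun b m' => π (s b * v m'))
        (fun b b' m' => by
          rw [← map_add, ← add_mul]
          exact hmul _ _ m' (by rw [map_add, hs, hs, hs]))
        (fun c b m' => by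
          show π _ = π (c * (s b * v m'))
          rw [← mul_assoc]
          refine hmul _ _ m' ?_
          rw [map_mul, hs, hs, Algebra.smul_def]
          rfl)
        (fun b m' m'' => by rw [map_add, mul_add, map_add])
        (fun c b m' => by
          show π (s b * v (c • m')) = π (c * (s b * v m'))
          rw [map_smul, smul_eq_mul, mul_left_comm]))
    have h1 : π (s 1 * v m) = 0 := (congrArg Φ h0).trans (map_zero Φ)
    rw [hmul (s 1) 1 m (by rw [hs, map_one]), one_mul] at h1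
    exact Ideal.Quotient.eq_zero_iff_mem.mp h1
  · intro hm
    suffices ∀ a ∈ J * J ^ n, ∃ m', v m' = a ∧ unitN i n x m' = 0 by
      obtain ⟨m', hm', h0⟩ := this _ (show v m ∈ J * J ^ n by rw [← pow_succ']; exact hm)
      rwa [← val_injective _ _ hm']
    intro a ha
    induction ha using Submodule.mul_induction_on' with
    | mem_mul_mem b hb c hc =>
        obtain ⟨m', hm'⟩ : c ∈ stI (i.ker ^ n) (i x) := by rw [stI_ker_pow i x n]; exact hc
        refine ⟨b • m', ?_, ?_⟩
        · rw [map_smul, rep_unique _ (rep_val _ _ m') hm']; rfl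
        · rw [unitN_smul, RingHom.mem_ker.mp hb, zero_smul]
    | add b hb c hc ihb ihc =>
        obtain ⟨m₁, h₁, e₁⟩ := ihb
        obtain ⟨m₂, h₂, e₂⟩ := ihc
        exact ⟨m₁ + m₂, by rw [map_add, h₁, h₂],
          ((map_add _ m₁ m₂).trans (congrArg₂ (· + ·) e₁ e₂)).trans (add_zero _)⟩

end Immersion

end Groth.Agent.PPSheaf.GrStalk
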