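import Groth.Agent.PPSheaf.Order1
import Groth.Agent.InvX.Tensor
import Groth.Agent.InvX.Pullback

/-! Principal parts over an affine base and an affine source. -/

set_option linter.style.haveILetI false
set_option backward.isDefEq.respectTransparency false
set_option backward.isDefEq.respectTransparency.types false
set_option autoImplicit false

universe u

open CategoryTheory CategoryTheory.Limits AlgebraicGeometry TopologicalSpace Opposite
open scoped TensorProduct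

namespace Groth.Agent.PPSheaf

variable {X S : Scheme.{u}} (f : X ⟶ S) (n : ℕ)

/-- `d^n 1`, as a section over the neighbourhood. -/
noncomputable def one' (U : X.Opens) :
    Γ((Scheme.Modules.pullback (PrinPart.pr2 f n)).obj (Coh.structureModule X), PrinPart.pr1 f n ⁻¹ᵁ U) := PrinPart.dn f n U 1

/-- The section of `P^n` with coordinate `r`. -/
noncomputable def act (U : X.Opens) (r : Γ(PrinPart.nbhd f n, PrinPart.pr1 f n ⁻¹ᵁ U)) : Γ(PrinPart.P f n, U) :=
  let x : Γ((Scheme.Modules.pullback (PrinPart.pr2 f n)).obj (Coh.structureModule X), PrinPart.pr1 f n ⁻¹ᵁ U) := r • one' f n U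
  x

/-- `d^n 1` is a basis of `P^n` over the neighbourhood. -/
theorem bijective_smul_dn_one (U : X.Opens) :
    Function.Bijective (fun r : Γ(PrinPart.nbhd f n, PrinPart.pr1 f n ⁻¹ᵁ U) => r • one' f n U) :=
  (InvX.isFrame_pullElt (PrinPart.pr2 f n) (InvX.isFrame_one U)) _ (PrinPart.preimage_pr1 f n U).le

theorem smul_dn (U : X.Opens) (a b : Γ(X, U)) :
    a • PrinPart.dn f n U b = act f n U ((PrinPart.pr1 f n).app U a * rightApp f n U b) := by
  rw [dn_eq f n U b]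
  erw [QCoh.pushforward_smul]
  exact smul_smul ((PrinPart.pr1 f n).app U a) (rightApp f n U b) (one' f n U)

/-- The chart over the whole affine schemes. -/
theorem kernel_sections {A B : Type u} [CommRing A] [CommRing B] [Algebra A B] {X S : Scheme.{u}} [IsAffine X] [IsAffine S]
    (f : X ⟶ S) (iA : A ≃+* Γ(S, ⊤)) (iB : B ≃+* Γ(X, ⊤))
    (hc : ∀ a, f.appTop (iA a) = iB (algebraMap A B a))
    (ψ : B ⊗[A] B →+ Γ(PrinPart.P f n, (⊤ : X.Opens)))
    (hψ : ∀ b b', ψ (b ⊗ₜ b') = iB b • PrinPart.dn f n ⊤ (iB b')) :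
    Function.Surjective ψ ∧ ψ.ker = (KaehlerDifferential.ideal A B ^ (n + 1)).toAddSubgroup := by
  letI : Algebra Γ(S, (⊤ : S.Opens)) Γ(X, (⊤ : X.Opens)) := (f.appLE ⊤ ⊤ le_rfl).hom.toAlgebra
  have halg : ∀ a, algebraMap Γ(S, (⊤ : S.Opens)) Γ(X, (⊤ : X.Opens)) (iA a) = iB (algebraMap A B a) := fun a => by
    rw [← hc a]
    show f.appLE ⊤ ⊤ le_rfl (iA a) = _
    rw [Scheme.Hom.appTop, Scheme.Hom.app_eq_appLE]
    rfl
  letI : Algebra A Γ(S, (⊤ : S.Opens)) := iA.toRingHom.toAlgebra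
  letI : Algebra A Γ(X, (⊤ : X.Opens)) := (iB.toRingHom.comp (algebraMap A B)).toAlgebra
  haveI : IsScalarTower A Γ(S, (⊤ : S.Opens)) Γ(X, (⊤ : X.Opens)) :=
    IsScalarTower.of_algebraMap_eq fun a => (halg a).symm
  haveI : TensorProduct.CompatibleSMul A Γ(S, (⊤ : S.Opens)) Γ(X, (⊤ : X.Opens)) Γ(X, (⊤ : X.Opens)) :=
    .of_algebraMap_surjective _ _ iA.surjective
  let eB : B ≃ₐ[A] Γ(X, (⊤ : X.Opens)) := AlgEquiv.ofRingEquiv (f := iB) fun _ => rfl
  let c : B ⊗[A] B →ₐ[A] Γ(X, (⊤ : X.Opens)) ⊗[Γ(S, (⊤ : S.Opens))] Γ(X, (⊤ : X.Opens)) :=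
    (Algebra.TensorProduct.mapOfCompatibleSMul Γ(S, (⊤ : S.Opens)) A A Γ(X, (⊤ : X.Opens)) Γ(X, (⊤ : X.Opens))).comp
      (Algebra.TensorProduct.map eB.toAlgHom eB.toAlgHom)
  have hc1 : Function.Bijective c :=
    (Algebra.TensorProduct.equivOfCompatibleSMul Γ(S, (⊤ : S.Opens)) A A Γ(X, (⊤ : X.Opens))
      Γ(X, (⊤ : X.Opens))).bijective.comp (Algebra.TensorProduct.congr eB eB).bijective
  let φ := RingEquiv.ofBijective c hc1
  have hφ : ∀ b b', φ (b ⊗ₜ b') = iB b ⊗ₜ iB b' := fun _ _ => rfl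
  have hI : Ideal.map φ (KaehlerDifferential.ideal A B) =
      KaehlerDifferential.ideal Γ(S, (⊤ : S.Opens)) Γ(X, (⊤ : X.Opens)) := by
    refine Ideal.ext fun s => ?_
    obtain ⟨t, rfl⟩ := φ.surjective s
    rw [Ideal.mem_map_of_equiv, KaehlerDifferential.ideal, KaehlerDifferential.ideal]
    have h : Algebra.TensorProduct.lmul' Γ(S, (⊤ : S.Opens)) (φ t) = iB (Algebra.TensorProduct.lmul' A t) := by
      induction t with
      | zero => simp
      | add x y hx hy => simp only [map_add, hx, hy]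
      | tmul b b' => rw [hφ]; simp
    constructor
    · rintro ⟨t', ht', h'⟩
      rw [φ.injective h', RingHom.mem_ker] at ht'
      rw [RingHom.mem_ker]
      exact h.trans ((congrArg iB ht').trans (map_zero _))
    · intro ht
      rw [RingHom.mem_ker] at ht
      refine ⟨t, RingHom.mem_ker.2 (iB.injective ?_), rfl⟩
      rw [map_zero]
      exact h.symm.trans ht
  obtain ⟨-, Ψ, hΨ, hker, hl, hr⟩ := exists_chart f ⟨⊤, isAffineOpen_top S⟩ ⟨⊤, isAffineOpen_top X⟩ le_rfl n rfl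
  let E := AddEquiv.ofBijective
    (AddMonoidHom.mk' (fun r : Γ(PrinPart.nbhd f n, PrinPart.pr1 f n ⁻¹ᵁ (⊤ : X.Opens)) =>
      (r • one' f n ⊤ : Γ((Scheme.Modules.pullback (PrinPart.pr2 f n)).obj (Coh.structureModule X),
        PrinPart.pr1 f n ⁻¹ᵁ (⊤ : X.Opens)))) fun a b => add_smul _ _ _)
    (bijective_smul_dn_one f n ⊤)
  have key : ∀ t, ψ t = E (Ψ (φ t)) := by
    intro t
    induction t with
    | zero => rw [map_zero, map_zero, map_zero]; exact (map_zero E).symm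
    | add x y hx hy => rw [map_add, map_add, map_add, hx, hy]; exact (map_add E _ _).symm
    | tmul b b' =>
      rw [hψ, hφ, smul_dn]
      show _ = E (Ψ _)
      rw [show iB b ⊗ₜ[Γ(S, (⊤ : S.Opens))] iB b' = (iB b ⊗ₜ 1) * (1 ⊗ₜ iB b') by simp, map_mul, hl, hr]
      rfl
  refine ⟨fun y => ?_, ?_⟩
  · obtain ⟨s, hs⟩ := hΨ (E.symm y)
    obtain ⟨t, rfl⟩ := φ.surjective s
    exact ⟨t, by rw [key, hs, AddEquiv.apply_symm_apply]⟩
  · ext t
    rw [AddMonoidHom.mem_ker, key, map_eq_zero_iff _ E.injective, ← RingHom.mem_ker, hker, ← hI,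
      ← Ideal.map_pow, Ideal.mem_map_of_equiv]
    exact ⟨fun ⟨t', ht', h⟩ => φ.injective h ▸ ht', fun h => ⟨t, h, rfl⟩⟩

end Groth.Agent.PPSheaf
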