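import Groth.Agent.Synt29.ConormalBC
import Groth.Agent.PPSheaf.PullId

/-! The conormal sequence of two immersions. -/

set_option linter.style.haveILetI false
set_option linter.unusedSectionVars false
set_option backward.isDefEq.respectTransparency false
set_option backward.isDefEq.respectTransparency.types false
set_option autoImplicit false

universe u

open CategoryTheory CategoryTheory.Limits AlgebraicGeometry TopologicalSpace Opposite

namespace Groth.Agent.PPSheaf.Conormal3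

open Groth.Agent.Synt29 OmegaStalk ConormalStalk ConormalExact ConormalSeq ConormalBC Groth.Agent.KFlatLib

theorem exists_el {Z X Z' X' : Scheme.{u}} (i : Z ⟶ X) (i' : Z' ⟶ X') (gZ : Z ⟶ Z')
    [IsImmersion i'] [QuasiCompact i'] (x : Z) (hs : Function.Surjective (gZ.stalkMap x))
    (z : St ((Scheme.Modules.pullback gZ).obj (Omega.conormal i')) x) : ∃ m, el i' gZ x m = z := by
  obtain ⟨y, hy⟩ := exists_unit gZ x hs _ z
  obtain ⟨U, hU, k, rfl⟩ := exists_conormalSect i' (gZ x) y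
  refine ⟨gm (ConormalStalk.I i') hU k, ?_⟩
  rw [el_gm]
  exact (ConcreteCategory.bijective_of_isIso ((stalkPullbackIso gZ x).app _).hom).1
    ((stalkPullbackIso_gm gZ _ x (show x ∈ gZ ⁻¹ᵁ (i' ⁻¹ᵁ U) from hU) _).trans hy.symm)

variable {Y' Y X : Scheme.{u}} (f : Y ⟶ X) [IsImmersion f] [QuasiCompact f]
  (j : Y' ⟶ Y) [IsImmersion j] [QuasiCompact j]

theorem δ₁_eq (x : Y') (r : X.presheaf.stalk ((j ≫ f) x)) (w : j ≫ f = (j ≫ f) ≫ 𝟙 X) :
    δ (j ≫ f) f (𝟙 X) j w x r = r := by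
  obtain ⟨U, hU, s, rfl⟩ := X.presheaf.exists_germ_eq r
  exact (δ_germ (j ≫ f) f (𝟙 X) j w x U hU hU s).trans rfl

theorem δ₂_eq (x : Y') (r : X.presheaf.stalk ((j ≫ f) x)) (w : 𝟙 Y' ≫ (j ≫ f) = j ≫ f) :
    δ j (j ≫ f) f (𝟙 Y') w x r = f.stalkMap (j x) r := by
  obtain ⟨U, hU, s, rfl⟩ := X.presheaf.exists_germ_eq r
  exact (δ_germ j (j ≫ f) f (𝟙 Y') w x U hU hU s).trans (Scheme.Hom.germ_stalkMap_apply f U (j x) hU s).symm

theorem main (φ₁ : (Scheme.Modules.pullback j).obj (Omega.conormal f) ⟶ Omega.conormal (j ≫ f))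
    (hφ₁ : OmegaSh.IsConormalMap (j ≫ f) f (𝟙 X) j φ₁)
    (φ₂ : (Scheme.Modules.pullback (𝟙 Y')).obj (Omega.conormal (j ≫ f)) ⟶ Omega.conormal j)
    (hφ₂ : OmegaSh.IsConormalMap j (j ≫ f) f (𝟙 Y') φ₂) :
    Epi φ₂ ∧ ∃ w : φ₁ ≫ (Scheme.Modules.pullbackId Y').inv.app (Omega.conormal (j ≫ f)) ≫ φ₂ = 0,
      (ShortComplex.mk φ₁ _ w).Exact := by
  have w₁ : j ≫ f = (j ≫ f) ≫ 𝟙 X := (Category.comp_id _).symm
  have w₂ : 𝟙 Y' ≫ (j ≫ f) = j ≫ f := Category.id_comp _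
  let α := (Scheme.Modules.pullbackId Y').inv.app (Omega.conormal (j ≫ f)) ≫ φ₂
  let P := fun x => (stalkPullbackIso j x).app (ConormalStalk.I j)
  let Q := fun x => (stalkPullbackIso (j ≫ f) x).app (ConormalStalk.I (j ≫ f))
  -- `α` on classes
  have hα : ∀ (x : Y') (z : St (Omega.conormal (j ≫ f)) x) (m : St (ConormalStalk.I (j ≫ f)) ((j ≫ f) x))
      (a : X.presheaf.stalk ((j ≫ f) x)), Rep (j ≫ f) _ m a → (Q x).hom z = unit1 (j ≫ f) x m →
      ∃ n, Rep j (j x) n (f.stalkMap (j x) a) ∧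
        (P x).hom ((DerSch.stalkFunctor Y' x).map α z) = unit1 j x n := by
    intro x z m a hm hz
    obtain ⟨n, hn, hv⟩ := map_el j (j ≫ f) f (𝟙 Y') w₂ x φ₂ hφ₂ m a hm
    rw [δ₂_eq f j x a w₂] at hn
    refine ⟨n, hn, ?_⟩
    obtain ⟨U, hU, k, rfl, -⟩ := hm
    have hz' : z = gm _ (show x ∈ (j ≫ f) ⁻¹ᵁ U from hU) (OmegaSh.conormalSect (j ≫ f) U k) :=
      (ConcreteCategory.bijective_of_isIso (Q x).hom).1
        (hz.trans (stalkPullbackIso_gm (j ≫ f) _ x (show x ∈ (j ≫ f) ⁻¹ᵁ U from hU) k).symm)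
    have he : (DerSch.stalkFunctor Y' x).map ((Scheme.Modules.pullbackId Y').inv.app (Omega.conormal (j ≫ f))) z =
        el (j ≫ f) (𝟙 Y') x (gm _ hU k) := by
      rw [hz']
      refine Eq.trans ?_ (el_gm (i' := j ≫ f) (gZ := 𝟙 Y') (x := x) (U := U) hU k).symm
      refine (DerSch.stalkFunctor_map_germ x _ _ _ _).trans ?_
      exact congrArg _ (pullbackId_inv_app _ _ _)
    show (P x).hom ((DerSch.stalkFunctor Y' x).map α z) = _
    rw [Functor.map_comp, ModuleCat.comp_apply, he]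
    exact hv
  have hunit : ∀ (x : Y') (z : St (Omega.conormal (j ≫ f)) x), ∃ m a, Rep (j ≫ f) _ m a ∧
      (Q x).hom z = unit1 (j ≫ f) x m := fun x z => by
    obtain ⟨m, hm⟩ := unit1_surjective (j ≫ f) x ((Q x).hom z)
    obtain ⟨a, ha⟩ := rep_exists (j ≫ f) _ m
    exact ⟨m, a, ha, hm.symm⟩
  have hcomp : ∀ (x : Y') (r : X.presheaf.stalk ((j ≫ f) x)),
      (j ≫ f).stalkMap x r = j.stalkMap x (f.stalkMap (j x) r) := fun x r =>
    congr($(Scheme.Hom.stalkMap_comp j f x) r)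
  have hepi : Epi α := by
    rw [epi_iff_stalk]
    intro x z
    obtain ⟨n, hn⟩ := unit1_surjective j x ((P x).hom z)
    obtain ⟨b, hb⟩ := rep_exists j _ n
    obtain ⟨a, rfl⟩ := f.stalkMap_surjective (j x) b
    obtain ⟨m, hm⟩ := exists_rep (j ≫ f) (x := x) (a := a) ((hcomp x a).trans (rep_mem j hb))
    obtain ⟨n', hn', hv⟩ := hα x ((Q x).inv (unit1 (j ≫ f) x m)) m a hm (Iso.inv_hom_id_apply _ _)
    refine ⟨(Q x).inv (unit1 (j ≫ f) x m), (ConcreteCategory.bijective_of_isIso (P x).hom).1 ?_⟩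
    rw [hv, rep_inj j hn' hb, hn]
  have hzero : φ₁ ≫ α = 0 := by
    refine hom_ext_stalk _ _ fun x v => ?_
    obtain ⟨m, rfl⟩ := exists_el (j ≫ f) f j x (j.stalkMap_surjective x) v
    obtain ⟨r, hr⟩ := rep_exists f _ m
    obtain ⟨n, hn, hv⟩ := map_el (j ≫ f) f (𝟙 X) j w₁ x φ₁ hφ₁ m r hr
    rw [δ₁_eq f j x r w₁] at hn
    obtain ⟨n', hn', hv'⟩ := hα x _ n r hn hv
    rw [Functor.map_zero, Functor.map_comp, ModuleCat.comp_apply]
    refine (ConcreteCategory.bijective_of_isIso (P x).hom).1 (hv'.trans ?_)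
    refine Eq.trans ?_ (map_zero (P x).hom.hom).symm
    exact unit1_eq_zero_of_mem_sq j hn' (by
      rw [show f.stalkMap (j x) r = 0 from rep_mem f hr]; exact zero_mem _)
  haveI : Epi α := hepi
  refine ⟨epi_of_epi ((Scheme.Modules.pullbackId Y').inv.app (Omega.conormal (j ≫ f))) φ₂, hzero, ?_⟩
  rw [exact_iff_stalk]
  intro x
  rw [ShortComplex.moduleCat_exact_iff]
  intro z hz
  obtain ⟨m, a, hm, hQ⟩ := hunit x z
  obtain ⟨n, hn, hv⟩ := hα x z m a hm hQ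
  let J := RingHom.ker (j.stalkMap x).hom
  let L := RingHom.ker ((j ≫ f).stalkMap x).hom
  have hJ : f.stalkMap (j x) a ∈ J ^ 2 := by
    refine mem_sq_of_unit1_eq_zero j (j.stalkMap_surjective x) hn ?_
    rw [← hv]
    exact (congrArg (P x).hom hz).trans (map_zero (P x).hom.hom)
  have hJL : J = L.map (f.stalkMap (j x)).hom := by
    refine le_antisymm (fun b hb => ?_) (Ideal.map_le_iff_le_comap.2 fun r hr => ?_)
    · obtain ⟨r, rfl⟩ := f.stalkMap_surjective (j x) b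
      exact Ideal.mem_map_of_mem _ (RingHom.mem_ker.2 ((hcomp x r).trans (RingHom.mem_ker.1 hb)))
    · exact RingHom.mem_ker.2 ((hcomp x r).symm.trans (RingHom.mem_ker.1 hr))
  rw [hJL, ← Ideal.map_pow,
    Ideal.mem_map_iff_of_surjective _ (f.stalkMap_surjective (j x))] at hJ
  obtain ⟨l, hl, hla⟩ := hJ
  obtain ⟨m₁, hm₁⟩ := exists_rep f (x := j x) (a := (show X.presheaf.stalk (f (j x)) from a) - (show X.presheaf.stalk (f (j x)) from l)) (by
    rw [map_sub, sub_eq_zero]; exact hla.symm)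
  obtain ⟨n₁, hn₁, hv₁⟩ := map_el (j ≫ f) f (𝟙 X) j w₁ x φ₁ hφ₁ m₁ _ hm₁
  rw [δ₁_eq f j x _ w₁] at hn₁
  obtain ⟨m₂, hm₂⟩ := exists_rep (j ≫ f) (x := x) (a := l)
    (RingHom.mem_ker.1 (Ideal.pow_le_self two_ne_zero hl))
  refine ⟨el f j x m₁, (ConcreteCategory.bijective_of_isIso (Q x).hom).1 ?_⟩
  refine hv₁.trans (Eq.trans ?_ hQ.symm)
  have hsum := rep_add (j ≫ f) hn₁ hm₂
  rw [sub_add_cancel] at hsum
  rw [← rep_inj (j ≫ f) hsum hm]
  refine Eq.symm ((map_add ((ModuleCat.extendRestrictScalarsAdj ((j ≫ f).stalkMap x).hom).unit.app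
    (St (ConormalStalk.I (j ≫ f)) ((j ≫ f) x))).hom n₁ m₂).trans ?_)
  exact (congrArg (unit1 (j ≫ f) x n₁ + ·) (unit1_eq_zero_of_mem_sq (j ≫ f) hm₂ hl)).trans (add_zero _)

end Groth.Agent.PPSheaf.Conormal3
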