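import Groth.Agent.Synt29.OmegaAffine

/-! Derivations of the structure sheaf of an affine scheme into a tilde. -/

set_option linter.style.haveILetI false
set_option backward.isDefEq.respectTransparency false
set_option backward.isDefEq.respectTransparency.types false
set_option autoImplicit false

universe u

open CategoryTheory CategoryTheory.Limits AlgebraicGeometry TopologicalSpace Opposite

namespace Groth.Agent.PPSheaf.DerTilde

variable (A B : Type u) [CommRing A] [CommRing B] [Algebra A B] (L : ModuleCat.{u} (CommRingCat.of B))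

/-- sections of the tilde over everything -/
noncomputable def top : L →+ Γ(tilde L, ⊤) where
  toFun z := (tilde.isoTop (R := CommRingCat.of B) L).hom z
  map_zero' := map_zero (tilde.isoTop (R := CommRingCat.of B) L).hom.hom
  map_add' := map_add (tilde.isoTop (R := CommRingCat.of B) L).hom.hom

theorem top_bijective : Function.Bijective (top B L) :=
  ConcreteCategory.bijective_of_isIso (tilde.isoTop (R := CommRingCat.of B) L).hom

theorem top_smul (b : B) (z : L) : top B L (b • z) = OmAff.toΓ B b • top B L z := by
  refine ((tilde.isoTop (R := CommRingCat.of B) L).hom.hom.map_smul b z).trans ?_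
  exact congrArg (fun c : Γ(Spec (CommRingCat.of B), ⊤) => c • top B L z) (OmegaLib.toΓ_res B b)

theorem main [Module A L] [IsScalarTower A B L] :
    (∀ D : OmegaSh.Der (OmegaLib.sMap A B) (tilde L),
      ∃ δ : Derivation A B L, ∀ t : B, D.app ⊤ (OmAff.toΓ B t) = top B L (δ t)) ∧
    ∀ δ : Derivation A B L,
      ∃! D : OmegaSh.Der (OmegaLib.sMap A B) (tilde L),
        ∀ t : B, D.app ⊤ (OmAff.toΓ B t) = top B L (δ t) := by
  refine ⟨fun D => ?_, fun δ => ?_⟩
  · let ι := Function.surjInv (top_bijective B L).2
    have hι : ∀ z, top B L (ι z) = z := Function.surjInv_eq (top_bijective B L).2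
    have hA : ∀ a : A, D.app ⊤ (OmAff.toΓ B (algebraMap A B a)) = 0 := fun a => by
      rw [← OmAff.appTop_toΓ]
      exact Synt29.OmegaStalk.app_base (tilde L) D ⊤ (OmAff.toΓ A a)
    have hmul : ∀ b b', D.app ⊤ (OmAff.toΓ B (b * b')) =
        OmAff.toΓ B b • D.app ⊤ (OmAff.toΓ B b') + OmAff.toΓ B b' • D.app ⊤ (OmAff.toΓ B b) := fun b b' => by
      rw [map_mul, Synt29.OmegaStalk.app_mul]
    refine ⟨{ toFun := fun b => ι (D.app ⊤ (OmAff.toΓ B b))
              map_add' := fun b b' => (top_bijective B L).1 (by rw [map_add (top B L), hι, hι, hι, map_add, map_add])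
              map_smul' := fun a b => (top_bijective B L).1 (by
                show top B L _ = top B L (a • ι (D.app ⊤ (OmAff.toΓ B b)))
                rw [algebra_compatible_smul B a (ι (D.app ⊤ (OmAff.toΓ B b))), top_smul, hι, hι,
                  Algebra.smul_def, hmul, hA, smul_zero, add_zero])
              map_one_eq_zero' := (top_bijective B L).1 (by
                show top B L (ι (D.app ⊤ (OmAff.toΓ B 1))) = top B L 0
                rw [hι, ← (algebraMap A B).map_one, hA, map_zero])
              leibniz' := fun b b' => (top_bijective B L).1 (by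
                show top B L (ι _) = top B L (b • ι _ + b' • ι _)
                rw [map_add, top_smul, top_smul, hι, hι, hι, hmul]) }, fun t => (hι _).symm⟩
  · obtain ⟨e, he⟩ := OmegaLib.exists_iso_kTilde A B
    let lin : ModuleCat.of (CommRingCat.of B) (Ω[B⁄A]) ⟶ L :=
      ModuleCat.ofHom δ.liftKaehlerDifferential
    let β : OmegaLib.kTilde A B ⟶ tilde L := (tilde.functor (CommRingCat.of B)).map lin
    let D : OmegaSh.Der (OmegaLib.sMap A B) (tilde L) := (OmegaSh.dOmega (OmegaLib.sMap A B)).postcomp (e.hom ≫ β).val
    have hD : ∀ t : B, D.app ⊤ (OmAff.toΓ B t) = top B L (δ t) := fun t => by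
      show β.app ⊤ (e.hom.app ⊤ (OmegaSh.dSect (OmegaLib.sMap A B) ⊤ (OmAff.toΓ B t))) = _
      rw [he]
      have h2 : β.app ⊤ (OmegaLib.toTop A B (KaehlerDifferential.D A B t)) =
          top B L (lin (KaehlerDifferential.D A B t)) :=
        congr($((tilde.adjunction (R := CommRingCat.of B)).unit.naturality lin)
          (KaehlerDifferential.D A B t)).symm
      rw [h2]
      exact congrArg _ (δ.liftKaehlerDifferential_comp_D t)
    refine ⟨D, hD, fun D' h => Synt29.OmegaStalk.der_ext_top fun b => ?_⟩
    obtain ⟨t, rfl⟩ := Synt29.OmegaStalk.toΓ_surjective B b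
    exact (h t).trans (hD t).symm

end Groth.Agent.PPSheaf.DerTilde
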