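import Mathlib.RingTheory.Kaehler.Basic
import Mathlib.Algebra.BigOperators.Ring.Finset
import Mathlib.LinearAlgebra.TensorProduct.Basic
import Mathlib.Algebra.Group.Pointwise.Set.BigOperators

/-! Differential operators between modules and the tensor action `(a ⊗ b) φ = a φ(b ·)`. -/

set_option linter.style.haveILetI false
set_option autoImplicit false
set_option linter.unusedSectionVars false

universe u

open scoped TensorProduct Pointwise

namespace Groth.Agent.PPSheaf

/-- Expansion of a product of differences over the subsets. -/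
theorem prod_sub_expand {T ι : Type*} [CommRing T] [Fintype ι] [DecidableEq ι] (g h : ι → T) :
    ∏ i, (g i - h i) = ∑ H : Finset ι, ((-1 : ℤ) ^ H.card) • ((∏ i ∈ H, h i) * ∏ i ∈ Hᶜ, g i) := by
  rw [Finset.prod_congr rfl (fun i _ => (sub_eq_neg_add (g i) (h i))), Finset.prod_add, Finset.powerset_univ]
  refine Finset.sum_congr rfl fun H _ => ?_
  rw [Finset.prod_neg, ← Finset.compl_eq_univ_sdiff, zsmul_eq_mul, mul_assoc]
  push_cast
  rfl

variable {R : Type*} {A : Type u} [CommRing R] [CommRing A] [Algebra R A]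

theorem tmul_expand {ι : Type*} [Fintype ι] [DecidableEq ι] (c : ι → A) :
    ∏ i, ((1 : A) ⊗ₜ[R] c i - c i ⊗ₜ[R] (1 : A)) =
      ∑ H : Finset ι, ((-1 : ℤ) ^ H.card) • ((∏ i ∈ H, c i) ⊗ₜ[R] (∏ i ∈ Hᶜ, c i)) := by
  rw [prod_sub_expand]
  refine Finset.sum_congr rfl fun H _ => ?_
  congr 1
  have h1 : ∏ i ∈ H, c i ⊗ₜ[R] (1 : A) = (∏ i ∈ H, c i) ⊗ₜ[R] (1 : A) :=
    (map_prod (Algebra.TensorProduct.includeLeft : A →ₐ[R] A ⊗[R] A) c H).symm
  have h2 : ∏ i ∈ Hᶜ, (1 : A) ⊗ₜ[R] c i = (1 : A) ⊗ₜ[R] (∏ i ∈ Hᶜ, c i) :=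
    (map_prod (Algebra.TensorProduct.includeRight : A →ₐ[R] A ⊗[R] A) c Hᶜ).symm
  rw [h1, h2, Algebra.TensorProduct.tmul_mul_tmul, mul_one, one_mul]

variable {M N P : Type u} [AddCommGroup M] [AddCommGroup N] [AddCommGroup P] [Module A M] [Module A N] [Module A P]

/-- `a ⊗ b ↦ a φ (b ·)` for an `R`-linear `φ`. -/
noncomputable def act (φ : M →+ N)
    (hφ : ∀ (r : R) (t : M), φ (algebraMap R A r • t) = algebraMap R A r • φ t) :
    A ⊗[R] A →+ M →+ N :=
  TensorProduct.liftAddHom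
    (AddMonoidHom.mk' (fun a => AddMonoidHom.mk' (fun b => AddMonoidHom.mk' (fun t => a • φ (b • t))
        fun t s => by rw [smul_add, map_add, smul_add])
      fun b c => by ext t; simp [add_smul, smul_add])
      fun a a' => by ext b t; simp [add_smul])
    fun r a b => by
      ext t
      show (r • a) • φ (b • t) = a • φ ((r • b) • t)
      rw [Algebra.smul_def, Algebra.smul_def, mul_smul, mul_smul, hφ, smul_comm]

variable (φ : M →+ N) (hφ : ∀ (r : R) (t : M), φ (algebraMap R A r • t) = algebraMap R A r • φ t)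

theorem act_tmul (a b : A) (t : M) : act φ hφ (a ⊗ₜ b) t = a • φ (b • t) := rfl

theorem act_left (a : A) (q : A ⊗[R] A) (t : M) : act φ hφ ((a ⊗ₜ 1) * q) t = a • act φ hφ q t := by
  induction q with
  | zero => simp
  | add x y hx hy => simp [mul_add, hx, hy]
  | tmul b c => rw [Algebra.TensorProduct.tmul_mul_tmul, one_mul, act_tmul, act_tmul, mul_smul]

theorem act_right (c : A) (q : A ⊗[R] A) (t : M) : act φ hφ (q * (1 ⊗ₜ c)) t = act φ hφ q (c • t) := by
  induction q with
  | zero => simp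
  | add x y hx hy => simp [add_mul, hx, hy]
  | tmul a b => rw [Algebra.TensorProduct.tmul_mul_tmul, mul_one, act_tmul, act_tmul, mul_smul]

/-- The alternating sum of the `n + 1` fold commutators. -/
def altSum {ι : Type*} [Fintype ι] [DecidableEq ι] (φ : M →+ N) (c : ι → A) (t : M) : N :=
  ∑ H : Finset ι, ((-1 : ℤ) ^ H.card) • ((∏ i ∈ H, c i) • φ ((∏ i ∈ Hᶜ, c i) • t))

theorem act_prod {ι : Type*} [Fintype ι] [DecidableEq ι] (c : ι → A) (t : M) :
    act φ hφ (∏ i, ((1 : A) ⊗ₜ[R] c i - c i ⊗ₜ[R] (1 : A))) t = altSum φ c t := by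
  rw [tmul_expand, map_sum, AddMonoidHom.finsetSum_apply]
  refine Finset.sum_congr rfl fun H _ => ?_
  rw [map_zsmul, AddMonoidHom.zsmul_apply, act_tmul]

/-- Order at most `n`. -/
def IsOrd (n : ℕ) (φ : M →+ N) : Prop := ∀ (c : Fin (n + 1) → A) (t : M), altSum φ c t = 0

theorem act_ideal (n : ℕ) (h : IsOrd (A := A) n φ) (q : A ⊗[R] A)
    (hq : q ∈ KaehlerDifferential.ideal R A ^ (n + 1)) : act φ hφ q = 0 := by
  rw [← KaehlerDifferential.span_range_eq_ideal, Ideal.span, Submodule.span_pow] at hq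
  suffices key : ∀ s : A ⊗[R] A, act φ hφ (s * q) = 0 by simpa using key 1
  induction hq using Submodule.span_induction with
  | zero => intro s; simp
  | add x y _ _ hx hy => intro s; simp [mul_add, hx, hy]
  | smul r x _ hx => intro s; rw [smul_eq_mul, ← mul_assoc]; exact hx _
  | mem x hx =>
    obtain ⟨g, hg, rfl⟩ := Set.mem_pow_iff_prod.1 hx
    choose c hc using hg
    intro s
    ext t
    induction s with
    | zero => simp
    | add x y hx hy => rw [add_mul, map_add, AddMonoidHom.add_apply, hx, hy]; simp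
    | tmul a b =>
      rw [show a ⊗ₜ[R] b * ∏ i, g i = (a ⊗ₜ 1) * ((∏ i, g i) * (1 ⊗ₜ b)) by
        rw [show a ⊗ₜ[R] b = (a ⊗ₜ 1) * (1 ⊗ₜ b) by simp]; ring,
        act_left, act_right, ← Finset.prod_congr rfl (fun i _ => hc i), act_prod, h, smul_zero]
      rfl

/-- The commutator with a function. -/
def ad (c : A) (φ : M →+ N) : M →+ N :=
  AddMonoidHom.mk' (fun t => φ (c • t) - c • φ t) fun t s => by simp only [smul_add, map_add]; abel

theorem lin_int (φ : M →+ N) (r : ℤ) (t : M) : φ (algebraMap ℤ A r • t) = algebraMap ℤ A r • φ t := by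
  rw [eq_intCast, Int.cast_smul_eq_zsmul, Int.cast_smul_eq_zsmul, map_zsmul]

theorem altSum_cons {n : ℕ} (φ : M →+ N) (c : A) (a : Fin n → A) (t : M) :
    altSum φ (Fin.cons c a) t = altSum (ad c φ) a t := by
  rw [← act_prod φ (lin_int φ), ← act_prod (ad c φ) (lin_int _), Fin.prod_univ_succ]
  simp only [Fin.cons_zero, Fin.cons_succ]
  generalize ∏ i, ((1 : A) ⊗ₜ[ℤ] a i - a i ⊗ₜ[ℤ] (1 : A)) = q
  induction q with
  | zero => simp
  | add x y hx hy => rw [mul_add, map_add, map_add, AddMonoidHom.add_apply, AddMonoidHom.add_apply, hx, hy]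
  | tmul x y =>
    rw [sub_mul, Algebra.TensorProduct.tmul_mul_tmul, Algebra.TensorProduct.tmul_mul_tmul, one_mul, one_mul,
      map_sub, AddMonoidHom.sub_apply, act_tmul, act_tmul, act_tmul]
    show x • φ ((c * y) • t) - (c * x) • φ (y • t) = x • (φ (c • y • t) - c • φ (y • t))
    rw [smul_sub, mul_smul c y t, mul_comm c x, mul_smul x c]

theorem isOrd_succ {n : ℕ} (φ : M →+ N) :
    IsOrd (A := A) (n + 1) φ ↔ ∀ c : A, IsOrd (A := A) n (ad c φ) := by
  refine ⟨fun h c a t => (altSum_cons φ c a t).symm.trans (h _ t), fun h a t => ?_⟩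
  rw [← Fin.cons_self_tail a, altSum_cons]
  exact h _ _ t

theorem isOrd_zero (φ : M →+ N) : IsOrd (A := A) 0 φ ↔ ∀ c : A, ad c φ = 0 := by
  have key : ∀ (c : A) (t : M), altSum φ (Fin.cons c (Fin.elim0 : Fin 0 → A)) t = ad c φ t := fun c t => by
    rw [altSum_cons, altSum, Fintype.sum_unique, show (default : Finset (Fin 0)) = ∅ from rfl]
    simp [Finset.univ_eq_empty]
  refine ⟨fun h c => AddMonoidHom.ext fun t => (key c t).symm.trans (h _ t), fun h a t => ?_⟩
  rw [← Fin.cons_self_tail a, show Fin.tail a = Fin.elim0 from funext fun i => i.elim0, key, h]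
  rfl

theorem isOrd_add {n : ℕ} {φ ψ : M →+ N} (h : IsOrd (A := A) n φ) (h' : IsOrd (A := A) n ψ) :
    IsOrd (A := A) n (φ + ψ) := fun c t => by
  have e : altSum (φ + ψ) c t = altSum φ c t + altSum ψ c t := by
    simp only [altSum, AddMonoidHom.add_apply, smul_add, Finset.sum_add_distrib]
  rw [e, h c t, h' c t, add_zero]

theorem isOrd_of_eq_zero (n : ℕ) : IsOrd (A := A) n (0 : M →+ N) := fun c t => by simp [altSum]

theorem isOrd_comp : ∀ (m : ℕ) {M N P : Type u} [AddCommGroup M] [AddCommGroup N] [AddCommGroup P] [Module A M]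
    [Module A N] [Module A P] (n n' : ℕ), n + n' = m → ∀ (φ : M →+ N) (ψ : N →+ P),
      IsOrd (A := A) n φ → IsOrd (A := A) n' ψ → IsOrd (A := A) m (ψ.comp φ) := by
  intro m
  induction m with
  | zero =>
    intro M N P _ _ _ _ _ _ n n' h φ ψ hφ hψ
    obtain ⟨rfl, rfl⟩ : n = 0 ∧ n' = 0 := by omega
    rw [isOrd_zero] at hφ hψ ⊢
    intro c
    ext t
    have h1 := sub_eq_zero.1 (congr($(hψ c) (φ t)) : ψ (c • φ t) - c • ψ (φ t) = 0)
    have h2 := sub_eq_zero.1 (congr($(hφ c) t) : φ (c • t) - c • φ t = 0)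
    show ψ (φ (c • t)) - c • ψ (φ t) = 0
    rw [h2, h1, sub_self]
  | succ m ih =>
    intro M N P _ _ _ _ _ _ n n' h φ ψ hφ hψ
    rw [isOrd_succ]
    intro c
    have e : ad c (ψ.comp φ) = ψ.comp (ad c φ) + (ad c ψ).comp φ := by
      ext t
      show ψ (φ (c • t)) - c • ψ (φ t) = ψ (φ (c • t) - c • φ t) + (ψ (c • φ t) - c • ψ (φ t))
      rw [map_sub]; abel
    rw [e]
    refine isOrd_add ?_ ?_
    · cases n with
      | zero => rw [(isOrd_zero φ).1 hφ c, AddMonoidHom.comp_zero]; exact isOrd_of_eq_zero m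
      | succ k => exact ih k n' (by omega) _ _ ((isOrd_succ φ).1 hφ c) hψ
    · cases n' with
      | zero => rw [(isOrd_zero ψ).1 hψ c, AddMonoidHom.zero_comp]; exact isOrd_of_eq_zero m
      | succ k => exact ih n k (by omega) _ _ hφ ((isOrd_succ ψ).1 hψ c)

end Groth.Agent.PPSheaf
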