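import Groth.Agent.PPSheaf.Order1
import Groth.Agent.PPSheaf.Gen
import Groth.Agent.PPSheaf.DiffAlg

/-! Alternating sums vanish exactly for the maps factoring through `d^n`. -/

set_option linter.style.haveILetI false
set_option linter.unusedSectionVars false
set_option backward.isDefEq.respectTransparency false
set_option backward.isDefEq.respectTransparency.types false
set_option autoImplicit false

universe u

open CategoryTheory CategoryTheory.Limits AlgebraicGeometry TopologicalSpace Opposite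
open scoped TensorProduct

namespace Groth.Agent.PPSheaf

open Groth.Agent.Synt29.OmegaStalk

variable {X S : Scheme.{u}} (f : X ⟶ S) (n : ℕ) {F G : X.Modules}

/-- Linearity for the functions of the base. -/
def BaseLin (D : F.presheaf ⟶ G.presheaf) : Prop :=
  ∀ (V : S.Opens) (s : Γ(S, V)) (U : X.Opens) (hU : U ≤ f ⁻¹ᵁ V) (t : Γ(F, U)),
    D.app (op U) (X.presheaf.map (homOfLE hU).op (f.app V s) • t) =
      X.presheaf.map (homOfLE hU).op (f.app V s) • D.app (op U) t

/-- Vanishing of the alternating sums. -/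
def Alt (D : F.presheaf ⟶ G.presheaf) : Prop :=
  ∀ (U : X.Opens), IsOrd (A := Γ(X, U)) (M := Γ(F, U)) (N := Γ(G, U)) n (D.app (op U)).hom

/-- The map of germs. -/
noncomputable def germMap (D : F.presheaf ⟶ G.presheaf) (x : X) : St F x →+ St G x :=
  ((TopCat.Presheaf.stalkFunctor AddCommGrpCat.{u} x).map D).hom

theorem germMap_gm (D : F.presheaf ⟶ G.presheaf) {U : X.Opens} {x : X} (hx : x ∈ U) (t : Γ(F, U)) :
    germMap D x (gm F hx t) = gm G hx (D.app (op U) t) :=
  TopCat.Presheaf.stalkFunctor_map_germ_apply U x hx D t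

/-- The left structure on stalks. -/
noncomputable abbrev leftStalk (z : PrinPart.nbhd f n) :
    X.presheaf.stalk (PrinPart.pr2 f n z) →+* (PrinPart.nbhd f n).presheaf.stalk z :=
  (X.presheaf.stalkSpecializes (specializes_of_eq (PrinPart.pr1_apply f n z)) ≫ (PrinPart.pr1 f n).stalkMap z).hom

theorem leftStalk_germ (z : PrinPart.nbhd f n) {U : X.Opens} (hz : z ∈ PrinPart.pr1 f n ⁻¹ᵁ U)
    (hx : PrinPart.pr2 f n z ∈ U) (a : Γ(X, U)) :
    leftStalk f n z (X.presheaf.germ U _ hx a) =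
      (PrinPart.nbhd f n).presheaf.germ _ z hz ((PrinPart.pr1 f n).app U a) := by
  show (PrinPart.pr1 f n).stalkMap z (X.presheaf.stalkSpecializes _ (X.presheaf.germ U _ hx a)) = _
  rw [TopCat.Presheaf.germ_stalkSpecializes_apply]
  exact Scheme.Hom.germ_stalkMap_apply _ U z hz a

theorem exists_stalk_desc (D : F.presheaf ⟶ G.presheaf) (hlin : BaseLin f D) (halt : Alt n D)
    (z : PrinPart.nbhd f n) :
    ∃ uz : St ((Scheme.Modules.pullback (PrinPart.pr2 f n)).obj F) z →+ St G (PrinPart.pr2 f n z),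
      (∀ a m, uz (leftStalk f n z a • m) = a • uz m) ∧
      ∀ (W : X.Opens) (hW : PrinPart.pr2 f n z ∈ W) (t : Γ(F, W)),
        uz (gm _ (show z ∈ PrinPart.pr2 f n ⁻¹ᵁ W from hW) (OmegaSh.pullSect (PrinPart.pr2 f n) F W t)) =
          gm G hW (D.app (op W) t) := by
  let x := PrinPart.pr2 f n z
  obtain ⟨V, U, hxU, e⟩ := exists_affine_pair f x
  have hz : z ∈ PrinPart.pr1 f n ⁻¹ᵁ U.1 := by rw [PrinPart.preimage_pr1]; exact hxU
  letI : Algebra Γ(S, V.1) Γ(X, U.1) := (f.appLE V.1 U.1 e).hom.toAlgebra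
  letI : Algebra Γ(X, U.1) (X.presheaf.stalk x) := (X.presheaf.germ U.1 x hxU).hom.toAlgebra
  letI : Algebra Γ(S, V.1) (X.presheaf.stalk x) :=
    ((X.presheaf.germ U.1 x hxU).hom.comp (f.appLE V.1 U.1 e).hom).toAlgebra
  haveI : IsScalarTower Γ(S, V.1) Γ(X, U.1) (X.presheaf.stalk x) := IsScalarTower.of_algebraMap_eq fun _ => rfl
  obtain ⟨hZu, ψ, hsurj, hker, hl, hr⟩ := exists_chart f V U e n rfl
  -- the germ of `D`
  let φ := germMap D x
  have hφ : ∀ (r : Γ(S, V.1)) (m : St F x),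
      φ (algebraMap Γ(S, V.1) (X.presheaf.stalk x) r • m) = algebraMap Γ(S, V.1) (X.presheaf.stalk x) r • φ m := by
    intro r m
    obtain ⟨W, hW, s, rfl⟩ := gm_surjective F m
    let U' := U.1 ⊓ W
    have hx' : x ∈ U' := ⟨hxU, hW⟩
    have hle : U' ≤ f ⁻¹ᵁ V.1 := inf_le_left.trans e
    have hr' : algebraMap Γ(S, V.1) (X.presheaf.stalk x) r =
        X.presheaf.germ U' x hx' (X.presheaf.map (homOfLE hle).op (f.app V.1 r)) := by
      show X.presheaf.germ U.1 x hxU (f.appLE V.1 U.1 e r) = _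
      rw [Scheme.Hom.appLE, CommRingCat.comp_apply]
      exact (X.presheaf.germ_res_apply _ _ _ _).trans (X.presheaf.germ_res_apply _ _ _ _).symm
    have hs : gm F hW s = gm F hx' (F.presheaf.map (homOfLE inf_le_right).op s) := (gm_res F _ hx' s).symm
    rw [hr', hs, ← gm_smul, germMap_gm, germMap_gm, hlin, gm_smul]
  have hord : IsOrd (A := X.presheaf.stalk x) n φ := by
    intro c m
    obtain ⟨W, hW, s, rfl⟩ := gm_surjective F m
    choose Wc hWc cs hcs using fun i => X.presheaf.exists_germ_eq (c i)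
    let U' := W ⊓ Finset.univ.inf Wc
    have hx' : x ∈ U' := ⟨hW, by
      show x ∈ ((Finset.univ.inf Wc : X.Opens) : Set X)
      rw [Opens.coe_finset_inf, Finset.inf_set_eq_iInter, Set.mem_iInter₂]
      exact fun i _ => hWc i⟩
    let c' : Fin (n + 1) → Γ(X, U') := fun i =>
      X.presheaf.map (homOfLE (inf_le_right.trans (Finset.inf_le (Finset.mem_univ i)))).op (cs i)
    let s' : Γ(F, U') := F.presheaf.map (homOfLE inf_le_left).op s
    have hc : c = fun i => X.presheaf.germ U' x hx' (c' i) := funext fun i =>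
      (hcs i).symm.trans (X.presheaf.germ_res_apply _ _ _ _).symm
    have hs : gm F hW s = gm F hx' s' := (gm_res F _ hx' s).symm
    rw [hc, hs]
    have h := congrArg (gm G hx') (halt U' c' s')
    rw [map_zero] at h
    rw [← h]
    simp only [altSum, map_sum, map_zsmul, gm_smul, ← map_prod]
    refine Finset.sum_congr rfl fun H _ => ?_
    rw [← gm_smul F hx' (∏ i ∈ Hᶜ, c' i) s', germMap_gm]
  -- the ring of truncated tensors
  let Bx := X.presheaf.stalk x
  let I := KaehlerDifferential.ideal Γ(S, V.1) Bx ^ (n + 1)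
  let Q := (Bx ⊗[Γ(S, V.1)] Bx) ⧸ I
  let τ := Algebra.TensorProduct.map (IsScalarTower.toAlgHom Γ(S, V.1) Γ(X, U.1) Bx)
    (IsScalarTower.toAlgHom Γ(S, V.1) Γ(X, U.1) Bx)
  have hτI : RingHom.ker ψ ≤ RingHom.ker ((Ideal.Quotient.mk I).comp τ.toRingHom) := by
    rw [hker, ← RingHom.comap_ker, Ideal.mk_ker]
    refine le_trans ?_ (Ideal.le_comap_pow τ.toRingHom (n + 1))
    refine Ideal.pow_right_mono ?_ _
    rw [← KaehlerDifferential.span_range_eq_ideal, Ideal.span_le]
    rintro _ ⟨b, rfl⟩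
    show τ _ ∈ KaehlerDifferential.ideal Γ(S, V.1) Bx
    rw [map_sub, Algebra.TensorProduct.map_tmul, Algebra.TensorProduct.map_tmul, map_one]
    exact KaehlerDifferential.one_smul_sub_smul_one_mem_ideal _ _
  let θ₀ : Γ(PrinPart.nbhd f n, PrinPart.pr1 f n ⁻¹ᵁ U.1) →+* Q := ψ.liftOfSurjective hsurj ⟨_, hτI⟩
  have hθ₀ : ∀ t, θ₀ (ψ t) = Ideal.Quotient.mk I (τ t) :=
    RingHom.liftOfRightInverse_comp_apply ψ _ (Function.rightInverse_surjInv hsurj) ⟨_, hτI⟩
  letI := (PrinPart.nbhd f n).presheaf.algebra_section_stalk (U := PrinPart.pr1 f n ⁻¹ᵁ U.1) ⟨z, hz⟩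
  haveI := hZu.isLocalization_stalk ⟨z, hz⟩
  have hunit : ∀ w : (hZu.primeIdealOf ⟨z, hz⟩).asIdeal.primeCompl, IsUnit (θ₀ w) := by
    intro w
    obtain ⟨t, ht⟩ := hsurj w.1
    let m := Algebra.TensorProduct.lmul' Γ(S, V.1) t
    have hi : t - m ⊗ₜ 1 ∈ KaehlerDifferential.ideal Γ(S, V.1) Γ(X, U.1) := by
      rw [KaehlerDifferential.ideal, RingHom.mem_ker]
      show Algebra.TensorProduct.lmul' Γ(S, V.1) _ = 0
      simp [m]
    have hnil : IsNilpotent (ψ (t - m ⊗ₜ 1)) := ⟨n + 1, by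
      rw [← map_pow]
      exact (RingHom.mem_ker).1 (hker ▸ Ideal.pow_mem_pow hi (n + 1))⟩
    have hu : IsUnit ((PrinPart.nbhd f n).presheaf.germ _ z hz (ψ (m ⊗ₜ 1))) := by
      have h1 : IsUnit ((PrinPart.nbhd f n).presheaf.germ _ z hz (ψ t)) := ht ▸ IsLocalization.map_units _ w
      have h := (hnil.map ((PrinPart.nbhd f n).presheaf.germ _ z hz).hom).neg.isUnit_add_left_of_commute h1
        (Commute.all _ _)
      rwa [map_sub, map_sub, neg_sub, add_sub_cancel] at h
    rw [hl, ← leftStalk_germ f n z hz hxU] at hu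
    haveI : IsIso (X.presheaf.stalkSpecializes (specializes_of_eq (PrinPart.pr1_apply f n z))) :=
      inferInstanceAs (IsIso (X.presheaf.stalkCongr (.of_eq (PrinPart.pr1_apply f n z).symm)).hom)
    have hm : IsUnit (X.presheaf.germ U.1 x hxU m) :=
      isUnit_of_map_unit (X.presheaf.stalkSpecializes (specializes_of_eq (PrinPart.pr1_apply f n z))).hom _
        (isUnit_of_map_unit ((PrinPart.pr1 f n).stalkMap z).hom _ hu)
    have h2 : IsUnit (θ₀ (ψ (m ⊗ₜ 1))) := by
      rw [hθ₀, Algebra.TensorProduct.map_tmul, map_one]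
      exact (hm.map (Algebra.TensorProduct.includeLeft : Bx →ₐ[Γ(S, V.1)] Bx ⊗[Γ(S, V.1)] Bx)).map _
    have h := (hnil.map θ₀).isUnit_add_left_of_commute h2 (Commute.all _ _)
    rwa [← map_add, ← map_add, add_sub_cancel, ht] at h
  let θ : (PrinPart.nbhd f n).presheaf.stalk z →+* Q := IsLocalization.lift hunit
  haveI : IsLocalization.AtPrime (X.presheaf.stalk x) (U.2.primeIdealOf ⟨x, hxU⟩).asIdeal :=
    U.2.isLocalization_stalk ⟨x, hxU⟩
  have hθl : ∀ a : Bx, θ (leftStalk f n z a) = Ideal.Quotient.mk I (a ⊗ₜ 1) := by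
    refine RingHom.congr_fun (IsLocalization.ringHom_ext (U.2.primeIdealOf ⟨x, hxU⟩).asIdeal.primeCompl
      (j := θ.comp (leftStalk f n z))
      (k := (Ideal.Quotient.mk I).comp (Algebra.TensorProduct.includeLeft : Bx →ₐ[Γ(S, V.1)] _).toRingHom) ?_)
    refine RingHom.ext fun b => ?_
    show θ (leftStalk f n z (X.presheaf.germ U.1 x hxU b)) = Ideal.Quotient.mk I (_ ⊗ₜ 1)
    rw [leftStalk_germ f n z hz hxU, ← hl]
    refine (IsLocalization.lift_eq hunit _).trans ?_
    rw [hθ₀, Algebra.TensorProduct.map_tmul, map_one]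
    rfl
  have hθr : ∀ a : Bx, θ ((PrinPart.pr2 f n).stalkMap z a) = Ideal.Quotient.mk I (1 ⊗ₜ a) := by
    refine RingHom.congr_fun (IsLocalization.ringHom_ext (U.2.primeIdealOf ⟨x, hxU⟩).asIdeal.primeCompl
      (j := θ.comp ((PrinPart.pr2 f n).stalkMap z).hom)
      (k := (Ideal.Quotient.mk I).comp (Algebra.TensorProduct.includeRight : Bx →ₐ[Γ(S, V.1)] _).toRingHom) ?_)
    refine RingHom.ext fun b => ?_
    show θ ((PrinPart.pr2 f n).stalkMap z (X.presheaf.germ U.1 x hxU b)) = Ideal.Quotient.mk I (1 ⊗ₜ _)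
    rw [← germ_appLE_stalkMap (PrinPart.pr2 f n) U.1 _ (PrinPart.preimage_pr1 f n U.1).le z hz, ← hr]
    refine (IsLocalization.lift_eq hunit _).trans ?_
    rw [hθ₀, Algebra.TensorProduct.map_tmul, map_one]
    rfl
  let actBar : Q →+ St F x →+ St G x :=
    QuotientAddGroup.lift I.toAddSubgroup (act φ hφ) fun q hq => act_ideal φ hφ n hord q hq
  have hbar : ∀ q, actBar (Ideal.Quotient.mk I q) = act φ hφ q := fun q => rfl
  have hbarR : ∀ (w : Q) (c : Bx) (m : St F x),
      actBar (w * Ideal.Quotient.mk I (1 ⊗ₜ c)) m = actBar w (c • m) := by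
    intro w c m
    obtain ⟨q, rfl⟩ := Ideal.Quotient.mk_surjective w
    rw [← map_mul, hbar, hbar, act_right]
  have hbarL : ∀ (w : Q) (c : Bx) (m : St F x),
      actBar (Ideal.Quotient.mk I (c ⊗ₜ 1) * w) m = c • actBar w m := by
    intro w c m
    obtain ⟨q, rfl⟩ := Ideal.Quotient.mk_surjective w
    rw [← map_mul, hbar, hbar, act_left]
  letI : Algebra Bx ((PrinPart.nbhd f n).presheaf.stalk z) := ((PrinPart.pr2 f n).stalkMap z).hom.toAlgebra
  let lifted : (PrinPart.nbhd f n).presheaf.stalk z ⊗[Bx] St F x →+ St G x :=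
    TensorProduct.liftAddHom (actBar.comp θ.toAddMonoidHom) fun c ν m => by
      show actBar (θ ((PrinPart.pr2 f n).stalkMap z c * ν)) m = actBar (θ ν) (c • m)
      rw [map_mul, hθr, mul_comm, hbarR]
  let E := ((KFlatLib.stalkPullbackIso (PrinPart.pr2 f n) z).app F).toLinearEquiv
  let uz : St ((Scheme.Modules.pullback (PrinPart.pr2 f n)).obj F) z →+ St G x :=
    lifted.comp E.toLinearMap.toAddMonoidHom
  refine ⟨uz, fun a m => ?_, fun W hW t => ?_⟩
  · show lifted (E (leftStalk f n z a • m)) = a • lifted (E m)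
    rw [map_smul]
    generalize E m = w
    induction w using TensorProduct.induction_on with
    | zero => exact (congrArg lifted (smul_zero _)).trans ((map_zero lifted).trans
        ((congrArg (a • ·) (map_zero lifted)).trans (smul_zero a)).symm)
    | tmul ν m' =>
      let ν' : (PrinPart.nbhd f n).presheaf.stalk z := ν
      show actBar (θ (leftStalk f n z a * ν')) m' = a • actBar (θ ν') m'
      rw [map_mul, hθl, hbarL]
    | add p q hp hq =>
      exact (congrArg lifted (smul_add _ p q)).trans ((map_add lifted _ _).trans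
        ((congrArg₂ (· + ·) hp hq).trans ((smul_add a _ _).symm.trans (congrArg (a • ·) (map_add lifted p q).symm))))
  · show lifted (E (gm _ _ _)) = _
    refine (congrArg lifted (stalkPullbackIso_gm (PrinPart.pr2 f n) F z (U := W) hW t)).trans ?_
    show actBar (θ 1) (gm F hW t) = _
    rw [map_one, show (1 : Q) = Ideal.Quotient.mk I ((1 : Bx) ⊗ₜ 1) from rfl, hbar, act_tmul, one_smul, one_smul]
    exact germMap_gm D hW t

/-- Descent through `d^n`. -/
theorem exists_desc (D : F.presheaf ⟶ G.presheaf) (hlin : BaseLin f D) (halt : Alt n D) :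
    PrinPart.IsDiffOpLE f F G n D := by
  choose uz huz hgen using exists_stalk_desc f n D hlin halt
  let N := (Scheme.Modules.pullback (PrinPart.pr2 f n)).obj F
  have hx : ∀ {U : X.Opens} {z : PrinPart.nbhd f n}, z ∈ PrinPart.pr1 f n ⁻¹ᵁ U → PrinPart.pr2 f n z ∈ U :=
    fun {U} {z} h => (PrinPart.preimage_pr1 f n U).le h
  let Good : ∀ U : X.Opens, Γ(PrinPart.PMod f n F, U) → Γ(G, U) → Prop := fun U σ τ =>
    ∀ (z : PrinPart.nbhd f n) (hz : z ∈ PrinPart.pr1 f n ⁻¹ᵁ U), gm G (hx hz) τ = uz z (gm N hz σ)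
  have uniq : ∀ {U : X.Opens} {σ : Γ(PrinPart.PMod f n F, U)} {τ τ' : Γ(G, U)},
      Good U σ τ → Good U σ τ' → τ = τ' := fun {U σ τ τ'} h h' => by
    refine TopCat.Presheaf.section_ext ⟨G.presheaf, G.isSheaf⟩ U _ _ fun x hxU => ?_
    have hp1 : PrinPart.pr1 f n (PrinPart.toNbhd f n x) = x := by
      rw [← Scheme.Hom.comp_apply, PrinPart.toNbhd_pr1]; rfl
    have hp : PrinPart.pr2 f n (PrinPart.toNbhd f n x) = x := by
      rw [← Scheme.Hom.comp_apply, PrinPart.toNbhd_pr2]; rfl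
    have hz : PrinPart.toNbhd f n x ∈ PrinPart.pr1 f n ⁻¹ᵁ U := show _ ∈ U by rw [hp1]; exact hxU
    have key := (h _ hz).trans (h' _ hz).symm
    have : ∀ (y : X) (hy : y ∈ U), y = x → gm G hy τ = gm G hy τ' → gm G hxU τ = gm G hxU τ' := by
      rintro y hy rfl h; exact h
    exact this _ (hx hz) hp key
  have res : ∀ {U V : X.Opens} (i : V ≤ U) {σ : Γ(PrinPart.PMod f n F, U)} {τ : Γ(G, U)}, Good U σ τ →
      Good V ((PrinPart.PMod f n F).presheaf.map (homOfLE i).op σ) (G.presheaf.map (homOfLE i).op τ) :=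
    fun {U V} i {σ τ} h z hz => by
      have h1 : gm N hz ((PrinPart.PMod f n F).presheaf.map (homOfLE i).op σ) =
          gm N ((PrinPart.pr1 f n).preimage_mono i hz) σ := gm_res' f n F i hz σ
      rw [gm_res, h1]
      exact h z _
  have hadd : ∀ {U : X.Opens} {σ σ' : Γ(PrinPart.PMod f n F, U)} {τ τ' : Γ(G, U)},
      Good U σ τ → Good U σ' τ' → Good U (σ + σ') (τ + τ') := fun {U σ σ' τ τ'} h h' z hz => by
    rw [map_add, h z hz, h' z hz, ← map_add]
    exact congrArg (uz z) (map_add (gm N hz) _ _).symm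
  have hsmul : ∀ {U : X.Opens} (a : Γ(X, U)) {σ : Γ(PrinPart.PMod f n F, U)} {τ : Γ(G, U)},
      Good U σ τ → Good U (a • σ) (a • τ) := fun {U} a {σ τ} h z hz => by
    rw [gm_smul, h z hz, ← huz, leftStalk_germ f n z hz (hx hz)]
    refine congrArg (uz z) ?_
    refine (gm_smul N hz ((PrinPart.pr1 f n).app U a) σ).symm.trans ?_
    exact congrArg (gm N hz) (QCoh.pushforward_smul (PrinPart.pr1 f n) U a σ).symm
  have hdP : ∀ (U : X.Opens) (t : Γ(F, U)), Good U (PrinPart.dP f n F U t) (D.app (op U) t) := fun U t z hz => by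
    rw [← hgen z U (hx hz) t]
    refine congrArg (uz z) ?_
    exact (gm_res N _ hz _).symm
  have hloc : ∀ (U : X.Opens) (σ : Γ(PrinPart.PMod f n F, U)) (x : U), ∃ (V : X.Opens) (h : V ≤ U) (τ : Γ(G, V)),
      x.1 ∈ V ∧ Good V ((PrinPart.PMod f n F).presheaf.map (homOfLE h).op σ) τ := fun U σ ⟨x, hxU⟩ => by
    obtain ⟨V, h, hxV, hmem⟩ := exists_mem_span f n F U σ x hxU
    suffices ∀ w ∈ Submodule.span Γ(X, V) (Set.range (PrinPart.dP f n F V)), ∃ τ, Good V w τ by
      obtain ⟨τ, hτ⟩ := this _ hmem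
      exact ⟨V, h, τ, hxV, hτ⟩
    intro w hw
    induction hw using Submodule.span_induction with
    | mem y hy => obtain ⟨t, rfl⟩ := hy; exact ⟨_, hdP V t⟩
    | zero => exact ⟨0, fun z hz => by rw [map_zero]; exact ((congrArg (uz z) (map_zero (gm N hz))).trans (map_zero _)).symm⟩
    | add y y' _ _ hy hy' => exact ⟨_, hadd hy.choose_spec hy'.choose_spec⟩
    | smul c y _ hy => exact ⟨_, hsmul c hy.choose_spec⟩
  have hex : ∀ (U : X.Opens) (σ : Γ(PrinPart.PMod f n F, U)), ∃ τ, Good U σ τ := fun U σ => by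
    choose V hV τ hxV hτ using hloc U σ
    obtain ⟨s, hs, -⟩ := TopCat.Sheaf.existsUnique_gluing' (C := AddCommGrpCat.{u}) ⟨G.presheaf, G.isSheaf⟩ V U
      (fun x => homOfLE (hV x)) (fun x hx => Opens.mem_iSup.mpr ⟨⟨x, hx⟩, hxV ⟨x, hx⟩⟩) τ (fun i j => by
        have h1 := res (inf_le_left : V i ⊓ V j ≤ V i) (hτ i)
        have h2 := res (inf_le_right : V i ⊓ V j ≤ V j) (hτ j)
        rw [OmegaSh.resM_resM] at h1 h2
        exact uniq h1 h2)
    refine ⟨s, fun z hz => ?_⟩
    let i : U := ⟨PrinPart.pr2 f n z, hx hz⟩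
    have hzV : z ∈ PrinPart.pr1 f n ⁻¹ᵁ V i := by rw [PrinPart.preimage_pr1]; exact hxV i
    have h := hτ i z hzV
    have h1 : gm N hzV ((PrinPart.PMod f n F).presheaf.map (homOfLE (hV i)).op σ) = gm N hz σ :=
      gm_res' f n F (hV i) hzV σ
    rw [h1, ← hs i] at h
    exact (gm_res G (homOfLE (hV i)) _ s).symm.trans h
  choose u₀ hu₀ using hex
  refine ⟨⟨PresheafOfModules.homMk
    { app := fun U => AddCommGrpCat.ofHom (AddMonoidHom.mk' (u₀ U.unop) fun a b =>
        uniq (hu₀ _ _) (hadd (hu₀ _ a) (hu₀ _ b)))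
      naturality := fun U V i => by
        ext σ
        exact uniq (hu₀ _ _) (res i.unop.le (hu₀ _ σ)) }
    fun U r σ => uniq (hu₀ _ _) (hsmul r (hu₀ _ σ))⟩, fun U t => ?_⟩
  exact uniq (hdP U t) (hu₀ U _)

end Groth.Agent.PPSheaf
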