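import Groth.Agent.PPSheaf.Desc

/-! Characterisation and composition of differential operators. -/

set_option linter.style.haveILetI false
set_option backward.isDefEq.respectTransparency false
set_option backward.isDefEq.respectTransparency.types false
set_option autoImplicit false

universe u

open CategoryTheory CategoryTheory.Limits AlgebraicGeometry TopologicalSpace Opposite

namespace Groth.Agent.PPSheaf

variable {X S : Scheme.{u}} (f : X ⟶ S) (n : ℕ) {F G H : X.Modules}

/-- `d^n t` read on the neighbourhood. -/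
noncomputable def dPN (F : X.Modules) (U : X.Opens) (t : Γ(F, U)) :
    Γ((Scheme.Modules.pullback (PrinPart.pr2 f n)).obj F, PrinPart.pr1 f n ⁻¹ᵁ U) := PrinPart.dP f n F U t

theorem dPN_smul (F : X.Modules) (U : X.Opens) (a : Γ(X, U)) (t : Γ(F, U)) :
    dPN f n F U (a • t) = rightApp f n U a • dPN f n F U t := by
  show PrinPart.dP f n F U (a • t) = _
  rw [PrinPart.dP_apply, OmegaSh.pullSect_smul, Scheme.Modules.map_smul]
  rfl

/-- A section over the neighbourhood acting through `u`. -/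
noncomputable def viaU (u : PrinPart.PMod f n F ⟶ G) (U : X.Opens)
    (σ : Γ((Scheme.Modules.pullback (PrinPart.pr2 f n)).obj F, PrinPart.pr1 f n ⁻¹ᵁ U)) : Γ(G, U) :=
  u.app U σ

theorem smul_viaU (u : PrinPart.PMod f n F ⟶ G) (U : X.Opens) (a : Γ(X, U))
    (σ : Γ((Scheme.Modules.pullback (PrinPart.pr2 f n)).obj F, PrinPart.pr1 f n ⁻¹ᵁ U)) :
    a • viaU f n u U σ = viaU f n u U ((PrinPart.pr1 f n).app U a • σ) := by
  refine (Scheme.Modules.Hom.app_smul u a (show Γ(PrinPart.PMod f n F, U) from σ)).symm.trans ?_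
  exact congrArg (u.app U) (QCoh.pushforward_smul _ _ _ _)

theorem alt_of_isDiffOpLE {D : F.presheaf ⟶ G.presheaf} (hD : PrinPart.IsDiffOpLE f F G n D) : Alt n D := by
  obtain ⟨u, hu⟩ := hD
  intro U c t
  have hD' : ∀ s, (D.app (op U)).hom s = viaU f n u U (dPN f n F U s) := fun s => hu U s
  let L := ((PrinPart.pr1 f n).app U).hom
  let R := rightApp f n U
  let add : Γ(PrinPart.nbhd f n, PrinPart.pr1 f n ⁻¹ᵁ U) →+ Γ(G, U) :=
    AddMonoidHom.mk' (fun r => viaU f n u U (r • dPN f n F U t)) fun a b => by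
    show u.app U _ = _
    exact (congrArg (u.app U) (add_smul a b (dPN f n F U t))).trans (map_add (u.app U).hom _ _)
  have h : altSum (D.app (op U)).hom c t = add (∏ i, (R (c i) - L (c i))) := by
    rw [prod_sub_expand, map_sum, altSum]
    refine Finset.sum_congr rfl fun H _ => ?_
    rw [map_zsmul, hD', dPN_smul, smul_viaU, smul_smul]
    congr 1
    show viaU f n u U ((L (∏ i ∈ H, c i) * R (∏ i ∈ Hᶜ, c i)) • _) = _
    rw [map_prod, map_prod]
    rfl
  rw [h, right_sub_left_pow, map_zero]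

theorem baseLin_of_isDiffOpLE {D : F.presheaf ⟶ G.presheaf} (hD : PrinPart.IsDiffOpLE f F G n D) :
    BaseLin f D := by
  obtain ⟨u, hu⟩ := hD
  intro V s U hU t
  have hLR : rightApp f n U (X.presheaf.map (homOfLE hU).op (f.app V s)) =
      (PrinPart.pr1 f n).app U (X.presheaf.map (homOfLE hU).op (f.app V s)) := by
    show (f.app V ≫ X.presheaf.map (homOfLE hU).op ≫ (PrinPart.pr2 f n).appLE U _ _) s =
      (f.app V ≫ X.presheaf.map (homOfLE hU).op ≫ (PrinPart.pr1 f n).app U) s
    rw [Scheme.Hom.app_eq_appLE (f := PrinPart.pr1 f n), Scheme.Hom.map_appLE, Scheme.Hom.map_appLE,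
      Scheme.Hom.app_eq_appLE (f := f), Scheme.Hom.appLE_comp_appLE, Scheme.Hom.appLE_comp_appLE,
      appLE_congr_hom (PrinPart.pr1_comp f n).symm V _ _]
  refine (hu U _).trans ?_
  show viaU f n u U (dPN f n F U _) = _
  rw [dPN_smul, hLR, ← smul_viaU]
  exact congrArg (_ • ·) (hu U t).symm

theorem isDiffOpLE_comp {n' : ℕ} {D : F.presheaf ⟶ G.presheaf} {D' : G.presheaf ⟶ H.presheaf}
    (hD : PrinPart.IsDiffOpLE f F G n D) (hD' : PrinPart.IsDiffOpLE f G H n' D') :
    PrinPart.IsDiffOpLE f F H (n + n') (D ≫ D') := by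
  refine exists_desc f (n + n') _ (fun V s U hU t => ?_) fun U => ?_
  · show D'.app (op U) (D.app (op U) _) = _ • D'.app (op U) (D.app (op U) t)
    rw [baseLin_of_isDiffOpLE f n hD V s U hU t, baseLin_of_isDiffOpLE f n' hD' V s U hU]
  · exact isOrd_comp (n + n') n n' rfl (D.app (op U)).hom (D'.app (op U)).hom
      (alt_of_isDiffOpLE f n hD U) (alt_of_isDiffOpLE f n' hD' U)

theorem isDiffOpLE_dPHom (F : X.Modules) :
    PrinPart.IsDiffOpLE f F (PrinPart.PMod f n F) n (PrinPart.dPHom f n F) :=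
  ⟨𝟙 _, fun _ _ => rfl⟩

end Groth.Agent.PPSheaf
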