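import Groth.Agent.PPSheaf.Chart
import Groth.Agent.QCoh.Support
import Groth.Agent.QCoh.FT
import Groth.Agent.QCoh.Qcqs
import Groth.Agent.QCoh.Pullback
import Groth.Agent.ModStLib.FibGrpd
import Groth.Agent.ZClosLib.CohDescent
import Mathlib.AlgebraicGeometry.Morphisms.Finite
import Mathlib.AlgebraicGeometry.Morphisms.FinitePresentation
import Mathlib.RingTheory.Finiteness.ModuleFinitePresentation
import Mathlib.RingTheory.IntegralClosure.IsIntegralClosure.Basic

/-! Finiteness properties of the sheaves of principal parts. -/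

set_option linter.style.haveILetI false
set_option backward.isDefEq.respectTransparency false
set_option backward.isDefEq.respectTransparency.types false
set_option autoImplicit false

universe u

open CategoryTheory CategoryTheory.Limits AlgebraicGeometry TopologicalSpace Opposite
open scoped TensorProduct

namespace Groth.Agent.PPSheaf

/-- A truncation of `A ⊗ A` at the diagonal is integral over the left factor. -/
theorem finite_truncation {R A P : Type u} [CommRing R] [CommRing A] [CommRing P] [Algebra R A] [Algebra A P]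
    [Algebra.FiniteType R A] (n : ℕ) (ψ : A ⊗[R] A →+* P) (hψ : Function.Surjective ψ)
    (hker : RingHom.ker ψ = KaehlerDifferential.ideal R A ^ (n + 1))
    (hl : ∀ b, ψ (b ⊗ₜ 1) = algebraMap A P b) :
    Module.Finite A P ∧ (Algebra.FinitePresentation R A → Module.FinitePresentation A P) := by
  let g : A ⊗[R] A →ₐ[A] P := { ψ with commutes' := fun b => hl b }
  have hg : Function.Surjective g := hψ
  haveI : Algebra.FiniteType A P := Algebra.FiniteType.of_surjective g hg
  haveI : Algebra.IsIntegral A P := ⟨fun y => by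
    obtain ⟨t, rfl⟩ := hψ y
    induction t with
    | zero => rw [map_zero]; exact isIntegral_zero
    | add a b ha hb => rw [map_add]; exact ha.add hb
    | tmul a b =>
      rw [show a ⊗ₜ[R] b = (a ⊗ₜ 1) * (1 ⊗ₜ b) by simp, map_mul, hl]
      refine isIntegral_algebraMap.mul ⟨(Polynomial.X - Polynomial.C b) ^ (n + 1),
        (Polynomial.monic_X_sub_C b).pow _, ?_⟩
      rw [Polynomial.eval₂_pow, Polynomial.eval₂_sub, Polynomial.eval₂_X, Polynomial.eval₂_C, ← hl, ← map_sub,
        ← map_pow, ← RingHom.mem_ker, hker]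
      exact Ideal.pow_mem_pow (KaehlerDifferential.one_smul_sub_smul_one_mem_ideal R b) _⟩
  haveI : Module.Finite A P := Algebra.IsIntegral.finite
  refine ⟨inferInstance, fun h => ?_⟩
  haveI : Algebra.FinitePresentation A P := Algebra.FinitePresentation.of_surjective hg (by
    show (RingHom.ker ψ).FG
    rw [hker]
    exact Submodule.FG.pow (KaehlerDifferential.ideal_fg R A) _)
  exact Module.FinitePresentation.of_finite_of_finitePresentation A P

variable {X S : Scheme.{u}} (f : X ⟶ S) (n : ℕ)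

/-- Affine opens lying over an affine of the base. -/
abbrev Small := {U : X.affineOpens // ∃ V : S.affineOpens, U.1 ≤ f ⁻¹ᵁ V.1}

theorem iSup_small : ⨆ U : Small f, U.1.1 = ⊤ := by
  refine eq_top_iff.mpr fun x _ => ?_
  obtain ⟨_, ⟨V, hV, rfl⟩, hxV, -⟩ :=
    S.isBasis_affineOpens.exists_subset_of_mem_open (Set.mem_univ (f x)) isOpen_univ
  obtain ⟨_, ⟨U, hU, rfl⟩, hxU, hUV⟩ :=
    X.isBasis_affineOpens.exists_subset_of_mem_open (show x ∈ (f ⁻¹ᵁ V : Set X) from hxV) (f ⁻¹ᵁ V).isOpen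
  exact Opens.mem_iSup.mpr ⟨⟨⟨U, hU⟩, ⟨V, hV⟩, hUV⟩, hxU⟩

theorem isAffineOpen_small (U : Small f) : IsAffineOpen (PrinPart.pr1 f n ⁻¹ᵁ U.1.1) := by
  obtain ⟨V, e⟩ := U.2
  letI := (f.appLE V.1 U.1.1 e).hom.toAlgebra
  exact (exists_chart f V U.1 e n rfl).1

theorem isAffineHom_pr1 : IsAffineHom (PrinPart.pr1 f n) := by
  refine isAffineHom_of_forall_exists_isAffineOpen _ fun x => ?_
  obtain ⟨U, hU⟩ := Opens.mem_iSup.mp ((iSup_small f).ge (Set.mem_univ x))
  exact ⟨U.1.1, hU, U.1.2, isAffineOpen_small f n U⟩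

theorem finite_small [LocallyOfFiniteType f] (U : Small f) :
    letI := ((PrinPart.pr1 f n).app U.1.1).hom.toAlgebra
    Module.Finite Γ(X, U.1.1) Γ(PrinPart.nbhd f n, PrinPart.pr1 f n ⁻¹ᵁ U.1.1) ∧
      (LocallyOfFinitePresentation f →
        Module.FinitePresentation Γ(X, U.1.1) Γ(PrinPart.nbhd f n, PrinPart.pr1 f n ⁻¹ᵁ U.1.1)) := by
  obtain ⟨V, e⟩ := U.2
  letI := ((PrinPart.pr1 f n).app U.1.1).hom.toAlgebra
  letI := (f.appLE V.1 U.1.1 e).hom.toAlgebra
  haveI : Algebra.FiniteType Γ(S, V.1) Γ(X, U.1.1) := f.finiteType_appLE V.2 U.1.2 e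
  obtain ⟨-, ψ, hψ, hker, hl, -⟩ := exists_chart f V U.1 e n rfl
  obtain ⟨h1, h2⟩ := finite_truncation n ψ hψ hker hl
  refine ⟨h1, fun h => ?_⟩
  haveI := h
  exact h2 (f.finitePresentation_appLE V.2 U.1.2 e)

theorem isFinite_pr1 [LocallyOfFiniteType f] : IsFinite (PrinPart.pr1 f n) := by
  refine (HasAffineProperty.iff_of_iSup_eq_top (P := @IsFinite) (fun U : Small f => U.1) (iSup_small f)).2
    fun U => ⟨isAffineOpen_small f n U, ?_⟩
  have key : ∀ W : X.Opens, W = U.1.1 → ((PrinPart.pr1 f n).app W).hom.Finite := by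
    rintro _ rfl
    exact (finite_small f n U).1
  rw [morphismRestrict_appTop, CommRingCat.hom_comp]
  exact RingHom.Finite.comp (RingHom.Finite.of_surjective _
    (ConcreteCategory.bijective_of_isIso _).2) (key _ U.1.1.ι_image_top)

theorem isQCoh_PMod {F : X.Modules} (hF : Coh.IsQCoh F) : Coh.IsQCoh (PrinPart.PMod f n F) := by
  haveI := isAffineHom_pr1 f n
  exact QCoh.isQCoh_pushforward _ (QCoh.isQCoh_pullback _ hF)

theorem isFP_PMod [LocallyOfFinitePresentation f] {F : X.Modules} (hF : CohB1.IsFP F) :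
    CohB1.IsFP (PrinPart.PMod f n F) := by
  refine QCoh.isFP_of_finitePresentation (isQCoh_PMod f n (QCoh.isQCoh_of_isFP hF)) (fun U : Small f => U.1.1)
    (IsOpenCover.mk (iSup_small f)) (fun U => U.1.2) fun U => ?_
  let φ := PrinPart.pr1 f n
  let N := (Scheme.Modules.pullback (PrinPart.pr2 f n)).obj F
  letI := (φ.app U.1.1).hom.toAlgebra
  haveI := (finite_small f n U).2 inferInstance
  haveI : Module.FinitePresentation Γ(PrinPart.nbhd f n, φ ⁻¹ᵁ U.1.1) Γ(N, φ ⁻¹ᵁ U.1.1) :=
    QCoh.finitePresentation_of_isFP (ModStLib.isFP_pullback _ hF) (isAffineOpen_small f n U)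
  letI : Module Γ(X, U.1.1) Γ(N, φ ⁻¹ᵁ U.1.1) := Module.compHom _ (φ.app U.1.1).hom
  haveI : IsScalarTower Γ(X, U.1.1) Γ(PrinPart.nbhd f n, φ ⁻¹ᵁ U.1.1) Γ(N, φ ⁻¹ᵁ U.1.1) :=
    IsScalarTower.of_algebraMap_smul fun _ _ => rfl
  haveI := Module.FinitePresentation.trans Γ(X, U.1.1) Γ(N, φ ⁻¹ᵁ U.1.1) Γ(PrinPart.nbhd f n, φ ⁻¹ᵁ U.1.1)
  exact Module.FinitePresentation.of_equiv
    ({ toFun := fun x => (show Γ(PrinPart.PMod f n F, U.1.1) from x)
       invFun := fun x => x
       left_inv := fun _ => rfl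
       right_inv := fun _ => rfl
       map_add' := fun _ _ => rfl
       map_smul' := fun r x => (QCoh.pushforward_smul φ U.1.1 r x).symm } :
      Γ(N, φ ⁻¹ᵁ U.1.1) ≃ₗ[Γ(X, U.1.1)] Γ(PrinPart.PMod f n F, U.1.1))

theorem isCoh_PMod [LocallyOfFiniteType f] {F : X.Modules} (hF : Coh.IsCoh F) :
    Coh.IsCoh (PrinPart.PMod f n F) := by
  haveI := isFinite_pr1 f n
  exact QCoh.isCoh_pushforward_finite _ (ZClosLib.isCoh_pullback _ hF)

end Groth.Agent.PPSheaf
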