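import Groth.Agent.W4Lib.Flat
import Mathlib.RingTheory.TensorProduct.Maps
import Mathlib.RingTheory.Flat.Localization
import Mathlib.RingTheory.RingHom.Flat
import Mathlib.Algebra.Category.Ring.Basic

/-! Ring algebra for base change of graded pieces of a section. -/

set_option linter.style.haveILetI false
set_option linter.unusedSectionVars false
set_option autoImplicit false

universe u

open CategoryTheory
open scoped TensorProduct

namespace Groth.Agent.PPSheaf.GrAlg

/-- A submodule with flat cokernel over `B` stays one after base change along `B → B'` and a flat map. -/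
theorem lTensor_injective {B A' B' A : Type u} [CommRing B] [CommRing A'] [CommRing B'] [CommRing A]
    [Algebra B A'] [Algebra B B'] [Algebra A' A] [Algebra (A' ⊗[B] B') A]
    [IsScalarTower A' (A' ⊗[B] B') A] [Module.Flat (A' ⊗[B] B') A]
    {M : Type u} [AddCommGroup M] [Module A' M] (ι : M →ₗ[A'] A') (hι : Function.Injective ι)
    (hflat : Module.Flat B (A' ⧸ LinearMap.range ι)) : Function.Injective (ι.lTensor A) := by
  let T := A' ⊗[B] B'
  letI : Module B M := Module.compHom M (algebraMap B A')
  haveI : IsScalarTower B A' M := IsScalarTower.of_algebraMap_smul fun _ _ => rfl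
  haveI := hflat
  have h1 : Function.Injective ((ι.restrictScalars B).rTensor B') := by
    refine (LinearMap.lTensor_inj_iff_rTensor_inj B' _).mp ?_
    exact W4Lib.lTensor_injective_of_flat_quotient (f := ι.restrictScalars B)
      (g := (LinearMap.range ι).mkQ.restrictScalars B) hι
      (fun z => (Submodule.Quotient.mk_eq_zero _).trans Iff.rfl)
      (fun z => Submodule.Quotient.mk_surjective _ z) B'
  have h2 : Function.Injective (ι.lTensor T) := by
    refine (LinearMap.lTensor_inj_iff_rTensor_inj T _).mpr ?_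
    let eM := TensorProduct.AlgebraTensorModule.cancelBaseChange B A' A' M B'
    let eA := TensorProduct.AlgebraTensorModule.cancelBaseChange B A' A' A' B'
    have hcomm : ∀ z, eA (ι.rTensor T z) = (ι.restrictScalars B).rTensor B' (eM z) := by
      intro z
      induction z using TensorProduct.induction_on with
      | zero => simp
      | add a b ha hb => simp only [map_add, ha, hb]
      | tmul m t =>
        induction t using TensorProduct.induction_on with
        | zero => simp
        | add a b ha hb => simp only [TensorProduct.tmul_add, map_add, ha, hb]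
        | tmul a b => simp [eA, eM, T]
    intro z z' h
    apply eM.injective
    apply h1
    rw [← hcomm, ← hcomm, h]
  let eM := TensorProduct.AlgebraTensorModule.cancelBaseChange A' T T A M
  let eA := TensorProduct.AlgebraTensorModule.cancelBaseChange A' T T A A'
  have h3 := Module.Flat.lTensor_preserves_injective_linearMap (M := A) (ι.baseChange T)
    (show Function.Injective (ι.lTensor T) from h2)
  have hcomm : ∀ z, eA ((ι.baseChange T).lTensor A z) = ι.lTensor A (eM z) := by
    intro z
    induction z using TensorProduct.induction_on with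
    | zero => simp
    | add a b ha hb => simp only [map_add, ha, hb]
    | tmul a t =>
      induction t using TensorProduct.induction_on with
      | zero => simp
      | add x y hx hy => simp only [TensorProduct.tmul_add, map_add, hx, hy]
      | tmul t m => simp [eA, eM]
  intro z z' h
  obtain ⟨z, rfl⟩ := eM.surjective z
  obtain ⟨z', rfl⟩ := eM.surjective z'
  rw [← hcomm, ← hcomm] at h
  rw [h3 (eA.injective h)]

/-- A local ring with the universal property of the local ring of a fibre product is flat over the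
tensor product. -/
theorem flat_of_univ {B A' B' A : CommRingCat.{u}} [IsLocalRing A] (γ : B ⟶ A') (σ : B ⟶ B')
    (d : A' ⟶ A) (e : B' ⟶ A) (w : γ ≫ d = σ ≫ e)
    (hext : ∀ (E : CommRingCat.{u}) (l₁ l₂ : A ⟶ E), d ≫ l₁ = d ≫ l₂ → e ≫ l₁ = e ≫ l₂ → l₁ = l₂)
    (hlift : ∀ (E : CommRingCat.{u}) [IsLocalRing E] (π : E ⟶ A) [IsLocalHom π.hom] (α : A' ⟶ E)
      (β : B' ⟶ E), γ ≫ α = σ ≫ β → α ≫ π = d → β ≫ π = e → ∃ l : A ⟶ E, d ≫ l = α ∧ e ≫ l = β) :
    letI := γ.hom.toAlgebra; letI := σ.hom.toAlgebra
    ∃ φ : (A' ⊗[B] B') →+* A, φ.Flat ∧ ∀ a, φ (a ⊗ₜ 1) = d a := by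
  letI := γ.hom.toAlgebra; letI := σ.hom.toAlgebra
  letI : Algebra B A := (γ ≫ d).hom.toAlgebra
  let dA : A' →ₐ[B] A := ⟨d.hom, fun _ => rfl⟩
  let eA : B' →ₐ[B] A := ⟨e.hom, fun b => (congr($w b)).symm⟩
  let φ : (A' ⊗[B] B') →+* A :=
    (Algebra.TensorProduct.lift dA eA fun a b => Commute.all _ _).toRingHom
  have hφd : ∀ a, φ (a ⊗ₜ 1) = d a := fun a => by
    simp [φ, dA]
  have hφe : ∀ b, φ (1 ⊗ₜ b) = e b := fun b => by
    simp [φ, eA]
  refine ⟨φ, ?_, hφd⟩
  let T := A' ⊗[B] B'
  let P : Ideal T := (IsLocalRing.maximalIdeal A).comap φ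
  haveI : P.IsPrime := Ideal.IsPrime.comap φ
  let E := Localization.AtPrime P
  have hu : ∀ t : P.primeCompl, IsUnit (φ t) := fun t => IsLocalRing.notMem_maximalIdeal.1 t.2
  let π₀ : E →+* A := IsLocalization.lift hu
  have hπ₀ : ∀ t, π₀ (algebraMap T E t) = φ t := fun t => IsLocalization.lift_eq hu t
  haveI : IsLocalHom π₀ := ⟨fun z hz => by
    obtain ⟨t, s, rfl⟩ := IsLocalization.exists_mk'_eq P.primeCompl z
    rw [IsLocalization.AtPrime.isUnit_mk'_iff E P]
    intro ht
    rw [IsLocalization.lift_mk'] at hz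
    exact (IsLocalRing.mem_maximalIdeal _).1 ht (isUnit_of_mul_isUnit_left hz)⟩
  let π : CommRingCat.of E ⟶ A := CommRingCat.ofHom π₀
  haveI : IsLocalHom π.hom := ‹IsLocalHom π₀›
  haveI : IsLocalRing (CommRingCat.of E) := inferInstanceAs (IsLocalRing E)
  let α : A' ⟶ CommRingCat.of E :=
    CommRingCat.ofHom ((algebraMap T E).comp Algebra.TensorProduct.includeLeftRingHom)
  let β : B' ⟶ CommRingCat.of E :=
    CommRingCat.ofHom ((algebraMap T E).comp Algebra.TensorProduct.includeRight.toRingHom)
  have hc : γ ≫ α = σ ≫ β := by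
    ext b
    show algebraMap T E (γ b ⊗ₜ 1) = algebraMap T E (1 ⊗ₜ σ b)
    congr 1
    exact (Algebra.TensorProduct.algebraMap_apply (A := A') (B := B') b).symm.trans
      (Algebra.TensorProduct.algebraMap_apply' b)
  have hα : α ≫ π = d := by
    ext a
    show π₀ (algebraMap T E (a ⊗ₜ 1)) = d a
    rw [hπ₀, hφd]
  have hβ : β ≫ π = e := by
    ext b
    show π₀ (algebraMap T E (1 ⊗ₜ b)) = e b
    rw [hπ₀, hφe]
  obtain ⟨l, hl₁, hl₂⟩ := hlift (CommRingCat.of E) π α β hc hα hβ
  have h1 : l ≫ π = 𝟙 A := hext A _ _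
    (by rw [reassoc_of% hl₁, hα, Category.comp_id]) (by rw [reassoc_of% hl₂, hβ, Category.comp_id])
  have hlφ : ∀ t : T, l (φ t) = algebraMap T E t := by
    intro t
    induction t using TensorProduct.induction_on with
    | zero => rw [map_zero, map_zero, map_zero]
    | add a b ha hb => rw [map_add, map_add, map_add, ha, hb]
    | tmul a b =>
      have ha : l (d a) = algebraMap T E (a ⊗ₜ 1) := congr($hl₁ a)
      have hb : l (e b) = algebraMap T E (1 ⊗ₜ b) := congr($hl₂ b)
      rw [show (a ⊗ₜ[B] b : T) = (a ⊗ₜ 1) * (1 ⊗ₜ b) by simp [T], map_mul φ, map_mul (algebraMap T E),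
        hφd, hφe, map_mul, ha, hb]
  have h2 : ∀ z : E, l (π₀ z) = z := by
    have := IsLocalization.ringHom_ext (R := T) P.primeCompl (S := E) (P := E)
      (j := l.hom.comp π₀) (k := RingHom.id E) (RingHom.ext fun t => by
        show l (π₀ (algebraMap T E t)) = algebraMap T E t
        rw [hπ₀, hlφ])
    exact fun z => congr($this z)
  let eq : E ≃+* A := RingEquiv.ofBijective π₀
    ⟨fun z z' h => by rw [← h2 z, ← h2 z', h], fun a => ⟨l a, congr($h1 a)⟩⟩
  letI : Algebra T A := φ.toAlgebra
  haveI : Module.Flat T E := IsLocalization.flat E P.primeCompl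
  show Module.Flat T A
  exact Module.Flat.of_linearEquiv (AlgEquiv.ofRingEquiv (f := eq) hπ₀).symm.toLinearEquiv

end Groth.Agent.PPSheaf.GrAlg
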