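import Groth.Agent.PPSheaf.GrStalk
import Groth.Prelude.Def_OmegaPn

/-! Base change of the graded pieces of an immersion. -/

set_option linter.style.haveILetI false
set_option linter.unusedSectionVars false
set_option backward.isDefEq.respectTransparency false
set_option backward.isDefEq.respectTransparency.types false
set_option autoImplicit false

universe u

open CategoryTheory CategoryTheory.Limits AlgebraicGeometry TopologicalSpace Opposite
open scoped TensorProduct

namespace Groth.Agent.PPSheaf.GrBC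

open Groth.Agent.Synt29 OmegaStalk Groth.Agent.KFlatLib GrStalk

variable {Z X Z' X' : Scheme.{u}} (i : Z ⟶ X) (i' : Z' ⟶ X') (g : X ⟶ X') (gZ : Z ⟶ Z')

theorem comap_ker_pow_le (w : gZ ≫ i' = i ≫ g) (n : ℕ) : (i'.ker ^ n).comap g ≤ i.ker ^ n := by
  rw [FComplLib.comap_pow]
  have h : i'.ker.comap g ≤ i.ker := by
    let L : Z ⟶ (i'.ker.comap g).subscheme :=
      pullback.lift i (gZ ≫ i'.toImage) (by rw [Category.assoc, ← w]; simp) ≫ (i'.ker.comapIso g).inv
    have hL : L ≫ (i'.ker.comap g).subschemeι = i := by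
      simp only [L, Category.assoc, Scheme.IdealSheafData.comapIso_inv_subschemeι, pullback.lift_fst]
    calc i'.ker.comap g = (i'.ker.comap g).subschemeι.ker := (Scheme.IdealSheafData.ker_subschemeι _).symm
      _ ≤ (L ≫ (i'.ker.comap g).subschemeι).ker := Scheme.Hom.le_ker_comp _ _
      _ = i.ker := by rw [hL]
  induction n with
  | zero => exact le_rfl
  | succ k hk =>
      rw [pow_succ, pow_succ]
      intro U
      exact Ideal.mul_mono (hk U) (h U)

/-- a local section of the power of the ideal maps to one -/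
theorem exists_sect (w : gZ ≫ i' = i ≫ g) (n : ℕ) (U : X'.Opens) (k : Γ(ClSub.idealMod (i'.ker ^ n), U)) :
    ∃ s : Γ(ClSub.idealMod (i.ker ^ n), g ⁻¹ᵁ U),
      OmegaSh.idealSect (i.ker ^ n) (g ⁻¹ᵁ U) s = g.app U (OmegaSh.idealSect (i'.ker ^ n) U k) := by
  let J := i'.ker ^ n
  let I := i.ker ^ n
  have hJI : J.comap g ≤ I := comap_ker_pow_le i i' g gZ w n
  let q := Scheme.IdealSheafData.inclusion hJI ≫ (J.comapIso g).hom ≫ pullback.snd _ _
  have hq : q ≫ J.subschemeι = I.subschemeι ≫ g := by simp [q, ← pullback.condition]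
  refine OmegaLib.exists_idealSect_eq I _ _ ?_
  show (I.subschemeι ≫ g).app U _ = 0
  rw [Scheme.Hom.congr_app hq.symm U]
  show I.subscheme.presheaf.map _ (q.app (J.subschemeι ⁻¹ᵁ U) (J.subschemeι.app U _)) = 0
  rw [OmegaLib.subschemeι_app_idealSect, map_zero, map_zero]

variable [IsImmersion i] [IsImmersion i'] [QuasiCompact i] [QuasiCompact i'] (n : ℕ)
  (φ : (Scheme.Modules.pullback gZ).obj (PrinPart.grMod i' n) ⟶ PrinPart.grMod i n)
  (hφ : PrinPart.IsGrMap i i' g gZ n φ) (x : Z)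

/-- the class of a germ of the power of the ideal, pulled back -/
noncomputable def el (m : St (ClSub.idealMod (i'.ker ^ n)) (i' (gZ x))) :
    St ((Scheme.Modules.pullback gZ).obj (PrinPart.grMod i' n)) x :=
  (((stalkPullbackIso gZ x).app (PrinPart.grMod i' n)).inv
    (((ModuleCat.extendRestrictScalarsAdj (gZ.stalkMap x).hom).unit.app _).hom
      (((stalkPullbackIso i' (gZ x)).app (ClSub.idealMod (i'.ker ^ n))).inv (unitN i' n (gZ x) m))))

theorem el_add (m m' : St (ClSub.idealMod (i'.ker ^ n)) (i' (gZ x))) :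
    el i' gZ n x (m + m') = el i' gZ n x m + el i' gZ n x m' := by
  let un := ((ModuleCat.extendRestrictScalarsAdj (gZ.stalkMap x).hom).unit.app
    (St (PrinPart.grMod i' n) (gZ x))).hom
  let Q := ((stalkPullbackIso i' (gZ x)).app (ClSub.idealMod (i'.ker ^ n))).inv
  let P := ((stalkPullbackIso gZ x).app (PrinPart.grMod i' n)).inv
  exact (congrArg (fun t => P (un (Q t))) (map_add (unitN i' n (gZ x)) m m')).trans ((congrArg (fun t => P (un t))
    (map_add Q.hom _ _)).trans ((congrArg P (map_add un _ _)).trans (map_add P.hom _ _)))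

theorem el_smul (r : X'.presheaf.stalk (i' (gZ x))) (m : St (ClSub.idealMod (i'.ker ^ n)) (i' (gZ x))) :
    el i' gZ n x (r • m) = gZ.stalkMap x (i'.stalkMap (gZ x) r) • el i' gZ n x m := by
  let un := ((ModuleCat.extendRestrictScalarsAdj (gZ.stalkMap x).hom).unit.app
    (St (PrinPart.grMod i' n) (gZ x))).hom
  let Q := ((stalkPullbackIso i' (gZ x)).app (ClSub.idealMod (i'.ker ^ n))).inv
  let P := ((stalkPullbackIso gZ x).app (PrinPart.grMod i' n)).inv
  exact (congrArg (fun t => P (un (Q t))) (unitN_smul i' n (gZ x) r m)).trans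
    ((congrArg (fun t => P (un t)) (map_smul Q.hom _ _)).trans
      ((congrArg P (map_smul un _ _)).trans (map_smul P.hom _ _)))

theorem el_gm {U : X'.Opens} (hU : i' (gZ x) ∈ U) (k : Γ(ClSub.idealMod (i'.ker ^ n), U)) :
    el i' gZ n x (gm (ClSub.idealMod (i'.ker ^ n)) hU k) =
      gm _ (show x ∈ gZ ⁻¹ᵁ (i' ⁻¹ᵁ U) from hU)
        (OmegaSh.pullSect gZ (PrinPart.grMod i' n) (i' ⁻¹ᵁ U) (PrinPart.grSect i' n U k)) := by
  refine (ConcreteCategory.bijective_of_isIso ((stalkPullbackIso gZ x).app (PrinPart.grMod i' n)).hom).1 ?_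
  refine (Iso.inv_hom_id_apply _ _).trans (Eq.trans (congrArg _ ?_)
    (stalkPullbackIso_gm gZ (PrinPart.grMod i' n) x (show x ∈ gZ ⁻¹ᵁ (i' ⁻¹ᵁ U) from hU) _).symm)
  refine (ConcreteCategory.bijective_of_isIso
    ((stalkPullbackIso i' (gZ x)).app (ClSub.idealMod (i'.ker ^ n))).hom).1 ?_
  refine (Iso.inv_hom_id_apply _ _).trans ?_
  exact (stalkPullbackIso_gm i' (ClSub.idealMod (i'.ker ^ n)) (gZ x) (show gZ x ∈ i' ⁻¹ᵁ U from hU) k).symm

variable (w : gZ ≫ i' = i ≫ g)

include hφ in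
/-- the value on classes -/
theorem map_el (m : St (ClSub.idealMod (i'.ker ^ n)) (i' (gZ x))) :
    ∃ l : St (ClSub.idealMod (i.ker ^ n)) (i x),
      val (i.ker ^ n) (i x) l = ConormalBC.δ i i' g gZ w x (val (i'.ker ^ n) (i' (gZ x)) m) ∧
      ((stalkPullbackIso i x).app (ClSub.idealMod (i.ker ^ n))).hom
          ((DerSch.stalkFunctor Z x).map φ (el i' gZ n x m)) = unitN i n x l := by
  obtain ⟨U, hU, k, rfl⟩ := gm_surjective _ m
  have hx : x ∈ i ⁻¹ᵁ g ⁻¹ᵁ U := by
    show (i ≫ g) x ∈ U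
    rw [← w]
    exact hU
  obtain ⟨s, hs⟩ := exists_sect i i' g gZ w n U k
  refine ⟨gm (ClSub.idealMod (i.ker ^ n)) (show i x ∈ g ⁻¹ᵁ U from hx) s, ?_, ?_⟩
  · rw [val_gm, val_gm, hs]
    exact (ConormalBC.δ_germ i i' g gZ w x U hU hx _).symm
  rw [el_gm]
  have hle : gZ ⁻¹ᵁ (i' ⁻¹ᵁ U) ≤ i ⁻¹ᵁ (g ⁻¹ᵁ U) :=
    (congrArg (fun t : Z ⟶ X' => t ⁻¹ᵁ U) w).le
  have hx' : x ∈ gZ ⁻¹ᵁ (i' ⁻¹ᵁ U) := hU
  have h2 := congrArg (gm (PrinPart.grMod i n) hx')
    (hφ.2 U k s hs (gZ ⁻¹ᵁ (i' ⁻¹ᵁ U)) le_rfl hle)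
  erw [gm_res, gm_res] at h2
  refine (congrArg _ ((DerSch.stalkFunctor_map_germ x φ _ hx' _).trans h2)).trans ?_
  exact stalkPullbackIso_gm i (ClSub.idealMod (i.ker ^ n)) x hx s

variable (hsq : IsPullback i gZ g i')

include hsq in
theorem ker_eq :
    RingHom.ker (i.stalkMap x).hom =
      (RingHom.ker (i'.stalkMap (gZ x)).hom).map (ConormalBC.δ i i' g gZ hsq.w.symm x).hom :=
  le_antisymm (ConormalBC.ker_le i i' g gZ hsq.w.symm x hsq) (Ideal.map_le_iff_le_comap.mpr fun r hr => by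
    rw [Ideal.mem_comap, RingHom.mem_ker, ConormalBC.stalkMap_δ, RingHom.mem_ker.mp hr, map_zero])

include hsq hφ in
theorem epi : Epi φ := by
  rw [epi_iff_stalk]
  intro x z
  let P := (stalkPullbackIso i x).app (ClSub.idealMod (i.ker ^ n))
  obtain ⟨l, hl⟩ := unitN_surjective i n x (P.hom z)
  suffices ∀ a ∈ RingHom.ker (i.stalkMap x).hom ^ n,
      ∃ l', val (i.ker ^ n) (i x) l' = a ∧
        ∃ v, P.hom ((DerSch.stalkFunctor Z x).map φ v) = unitN i n x l' by
    obtain ⟨l', hl', v, hv⟩ := this _ (stI_ker_pow i x n ▸ val_mem (i.ker ^ n) (i x) l)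
    rw [val_injective _ _ hl', hl] at hv
    exact ⟨v, (ConcreteCategory.bijective_of_isIso P.hom).1 hv⟩
  intro a ha
  rw [ker_eq i i' g gZ x hsq, ← Ideal.map_pow] at ha
  induction ha using Submodule.span_induction with
  | mem a ha =>
      obtain ⟨r, hr, rfl⟩ := ha
      obtain ⟨m, hm⟩ : r ∈ LinearMap.range (val (i'.ker ^ n) (i' (gZ x))) := by
        rw [range_val, stI_ker_pow i' (gZ x) n]; exact hr
      obtain ⟨l', hl', hv⟩ := map_el i i' g gZ n φ hφ x hsq.w.symm m
      exact ⟨l', by rw [hl', hm], _, hv⟩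
  | zero => exact ⟨0, map_zero _, 0, (congrArg P.hom (map_zero _)).trans
      ((map_zero _).trans (map_zero _).symm)⟩
  | add b b' _ _ e e' =>
      obtain ⟨l₁, h, v, hv⟩ := e
      obtain ⟨l₂, h', v', hv'⟩ := e'
      exact ⟨l₁ + l₂, by rw [map_add, h, h'], v + v', (congrArg P.hom (map_add _ v v')).trans
        ((map_add _ _ _).trans ((congrArg₂ (· + ·) hv hv').trans (map_add _ l₁ l₂).symm))⟩
  | smul c b _ e =>
      obtain ⟨l', h, v, hv⟩ := e
      refine ⟨c • l', by rw [map_smul, h], i.stalkMap x c • v, ?_⟩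
      rw [map_smul]
      refine (map_smul _ _ _).trans ?_
      rw [hv, unitN_smul]

include hsq hφ in
/-- injectivity, given injectivity of `A ⊗ I'^n → A` -/
theorem mono (hinj : ∀ x : Z,
    letI := (ConormalBC.δ i i' g gZ hsq.w.symm x).hom.toAlgebra
    Function.Injective ((val (i'.ker ^ n) (i' (gZ x))).lTensor (X.presheaf.stalk (i x)))) :
    Mono φ := by
  rw [mono_iff_stalk]
  intro x
  refine (injective_iff_map_eq_zero _).mpr fun z hz => ?_
  let A' := X'.presheaf.stalk (i' (gZ x))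
  let A := X.presheaf.stalk (i x)
  let d := ConormalBC.δ i i' g gZ hsq.w.symm x
  let _ : Algebra A' A := d.hom.toAlgebra
  let M' := St (ClSub.idealMod (i'.ker ^ n)) (i' (gZ x))
  let v' := val (i'.ker ^ n) (i' (gZ x))
  let μ : A ⊗[A'] M' →ₗ[A'] A := (TensorProduct.rid A' A).toLinearMap ∘ₗ v'.lTensor A
  have hμt : ∀ (c : A) (m : M'), μ (c ⊗ₜ m) = d (v' m) * c := fun c m => rfl
  have hμinj : Function.Injective μ := (TensorProduct.rid A' A).injective.comp (hinj x)
  let F : A →+ M' →+ St ((Scheme.Modules.pullback gZ).obj (PrinPart.grMod i' n)) x :=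
    AddMonoidHom.mk' (fun c => AddMonoidHom.mk' (fun m => i.stalkMap x c • el i' gZ n x m)
        (fun m m' => by rw [el_add, smul_add]))
      (fun c c' => by
        ext m
        show i.stalkMap x (c + c') • el i' gZ n x m = i.stalkMap x c • _ + i.stalkMap x c' • _
        rw [map_add, add_smul])
  let Θ : A ⊗[A'] M' →+ St ((Scheme.Modules.pullback gZ).obj (PrinPart.grMod i' n)) x :=
    TensorProduct.liftAddHom F fun r c m => by
      show i.stalkMap x (d r * c) • el i' gZ n x m = i.stalkMap x c • el i' gZ n x (r • m)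
      rw [el_smul, smul_smul, map_mul, ConormalBC.stalkMap_δ, mul_comm]
  have hΘt : ∀ (c : A) (m : M'), Θ (c ⊗ₜ m) = i.stalkMap x c • el i' gZ n x m := fun c m => rfl
  have hb : ∀ (b : A) (v : A ⊗[A'] M'), μ (b • v) = b * μ v ∧ Θ (b • v) = i.stalkMap x b • Θ v := by
    intro b v
    induction v using TensorProduct.induction_on with
    | zero => simp
    | tmul c m =>
        rw [TensorProduct.smul_tmul', smul_eq_mul, hμt, hμt, hΘt, hΘt, map_mul, smul_smul]
        exact ⟨by ring, rfl⟩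
    | add v v' hv hv' =>
        rw [smul_add, map_add, map_add, map_add, map_add, hv.1, hv'.1, hv.2, hv'.2, mul_add, smul_add]
        exact ⟨rfl, rfl⟩
  -- every element is a value of `Θ`
  obtain ⟨v, rfl⟩ : ∃ v, Θ v = z := by
    let P := (stalkPullbackIso gZ x).app (PrinPart.grMod i' n)
    obtain ⟨y, rfl⟩ := (ConcreteCategory.bijective_of_isIso P.inv).2 z
    clear hz
    let _ := (gZ.stalkMap x).hom.toAlgebra
    change (Z.presheaf.stalk x) ⊗[Z'.presheaf.stalk (gZ x)] (St (PrinPart.grMod i' n) (gZ x)) at y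
    induction y using TensorProduct.induction_on with
    | zero => exact ⟨0, (map_zero Θ).trans (map_zero P.inv.hom).symm⟩
    | tmul b l =>
        let Q := (stalkPullbackIso i' (gZ x)).app (ClSub.idealMod (i'.ker ^ n))
        obtain ⟨m, hm⟩ := unitN_surjective i' n (gZ x) (Q.hom l)
        obtain ⟨c, hc⟩ := i.stalkMap_surjective x b
        refine ⟨c ⊗ₜ m, (hΘt c m).trans ?_⟩
        have hn : Q.inv (unitN i' n (gZ x) m) = l :=
          (congrArg _ hm).trans (Iso.hom_inv_id_apply _ _)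
        refine (congrArg (fun t => i.stalkMap x c • P.inv
          (((ModuleCat.extendRestrictScalarsAdj (gZ.stalkMap x).hom).unit.app _).hom t)) hn).trans ?_
        refine (map_smul P.inv.hom _ _).symm.trans (congrArg P.inv ?_)
        show i.stalkMap x c • ((1 : Z.presheaf.stalk x) ⊗ₜ[Z'.presheaf.stalk (gZ x)] l) =
          b ⊗ₜ[Z'.presheaf.stalk (gZ x)] l
        rw [hc]
        show (b * 1) ⊗ₜ[Z'.presheaf.stalk (gZ x)] l = b ⊗ₜ[Z'.presheaf.stalk (gZ x)] l
        rw [mul_one]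
    | add y y' e e' =>
        obtain ⟨v, hv⟩ := e
        obtain ⟨v', hv'⟩ := e'
        exact ⟨v + v', (map_add Θ v v').trans ((congrArg₂ (· + ·) hv hv').trans
          (map_add P.inv.hom y y').symm)⟩
  let P := (stalkPullbackIso i x).app (ClSub.idealMod (i.ker ^ n))
  have hval : ∀ v, ∃ l, val (i.ker ^ n) (i x) l = μ v ∧
      P.hom ((DerSch.stalkFunctor Z x).map φ (Θ v)) = unitN i n x l := by
    intro v
    induction v using TensorProduct.induction_on with
    | zero =>
        refine ⟨0, (map_zero _).trans (map_zero μ).symm, ?_⟩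
        rw [map_zero, map_zero]
        exact (map_zero P.hom.hom).trans (map_zero _).symm
    | tmul c m =>
        obtain ⟨l, hl, hv⟩ := map_el i i' g gZ n φ hφ x hsq.w.symm m
        refine ⟨c • l, ?_, ?_⟩
        · rw [hμt, map_smul, hl, smul_eq_mul, mul_comm]
        rw [hΘt, map_smul]
        refine (map_smul _ _ _).trans ?_
        rw [hv, unitN_smul]
    | add a b e e' =>
        obtain ⟨l, h, hv⟩ := e
        obtain ⟨l', h', hv'⟩ := e'
        refine ⟨l + l', by rw [map_add, map_add, h, h'], ?_⟩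
        rw [map_add, map_add]
        exact (map_add P.hom.hom _ _).trans ((congrArg₂ (· + ·) hv hv').trans (map_add _ l l').symm)
  have hK : ∀ a ∈ RingHom.ker (i.stalkMap x).hom ^ n, ∃ v, μ v = a := by
    intro a ha
    rw [ker_eq i i' g gZ x hsq, ← Ideal.map_pow] at ha
    induction ha using Submodule.span_induction with
    | mem a ha =>
        obtain ⟨r, hr, rfl⟩ := ha
        obtain ⟨m, hm⟩ : r ∈ LinearMap.range v' := by
          show r ∈ LinearMap.range (val (i'.ker ^ n) (i' (gZ x)))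
          rw [range_val, stI_ker_pow i' (gZ x) n]; exact hr
        refine ⟨(1 : A) ⊗ₜ m, ?_⟩
        rw [hμt, mul_one, hm]
    | zero => exact ⟨0, map_zero μ⟩
    | add a b _ _ e e' =>
        obtain ⟨u, hu⟩ := e
        obtain ⟨u', hu'⟩ := e'
        exact ⟨u + u', by rw [map_add, hu, hu']⟩
    | smul c a _ e =>
        obtain ⟨u, hu⟩ := e
        exact ⟨c • u, by rw [(hb c u).1, hu]; rfl⟩
  obtain ⟨l, hl, hv⟩ := hval v
  rw [hz] at hv
  have hmem := (unitN_eq_zero_iff i n x l).1 (hv.symm.trans (map_zero P.hom.hom))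
  rw [hl] at hmem
  obtain ⟨u, hu, hu0⟩ : ∃ u, μ u = μ v ∧ Θ u = 0 := by
    generalize μ v = a at hmem ⊢
    rw [pow_succ'] at hmem
    induction hmem using Submodule.mul_induction_on' with
    | mem_mul_mem b hb' c hc =>
        obtain ⟨u, hu⟩ := hK c hc
        refine ⟨b • u, by rw [(hb b u).1, hu], ?_⟩
        rw [(hb b u).2, RingHom.mem_ker.mp hb', zero_smul]
    | add b _ c _ e e' =>
        obtain ⟨u, hu, hu0⟩ := e
        obtain ⟨u', hu', hu0'⟩ := e'
        exact ⟨u + u', by rw [map_add, hu, hu'], by rw [map_add, hu0, hu0', add_zero]⟩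
  rw [← hμinj hu]
  exact hu0

end Groth.Agent.PPSheaf.GrBC
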