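import Groth.Agent.PPSheaf.GrBC
import Groth.Agent.PPSheaf.GrAlg
import Groth.Agent.Synt29.OmegaBC
import Groth.Agent.CAlgUI.Flat
import Groth.Prelude.Def_FlatMod2
import Mathlib.RingTheory.Flat.Stability

/-! Graded pieces of a section and arbitrary base change. -/

set_option linter.style.haveILetI false
set_option linter.unusedSectionVars false
set_option backward.isDefEq.respectTransparency false
set_option backward.isDefEq.respectTransparency.types false
set_option autoImplicit false

universe u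

open CategoryTheory CategoryTheory.Limits AlgebraicGeometry TopologicalSpace Opposite
open scoped TensorProduct

namespace Groth.Agent.PPSheaf.GrSection

open Groth.Agent.Synt29 OmegaStalk Groth.Agent.KFlatLib GrStalk

variable {X Y X' Y' : Scheme.{u}} (g : X ⟶ Y) (f : Y ⟶ X)

theorem isIso_retraction (hf : f ≫ g = 𝟙 Y) (q : Y) (p : X) (hp : f q = p) :
    IsIso (g.stalkMap p ≫ (X.presheaf.stalkCongr (.of_eq hp)).inv ≫ f.stalkMap q) := by
  subst hp
  rw [TopCat.Presheaf.stalkCongr_inv, TopCat.Presheaf.stalkSpecializes_refl, Category.id_comp,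
    ← Scheme.Hom.stalkMap_comp]
  haveI : IsIso (f ≫ g) := by rw [hf]; infer_instance
  infer_instance

variable [IsImmersion f] [QuasiCompact f]

/-- `A/J^k` is flat over `B` when the graded pieces below `k` are flat. -/
theorem flat_quot (y : Y) {B : CommRingCat.{u}} (γ : B ⟶ X.presheaf.stalk (f y))
    (he : Function.Bijective (γ ≫ f.stalkMap y)) (n : ℕ)
    (hflat : ∀ k < n, FlatMod.IsFlatAt (PrinPart.grMod f k) y) :
    letI := γ.hom.toAlgebra
    Module.Flat B (X.presheaf.stalk (f y) ⧸ RingHom.ker (f.stalkMap y).hom ^ n) := by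
  letI := γ.hom.toAlgebra
  let A := X.presheaf.stalk (f y)
  let O := Y.presheaf.stalk y
  let J := RingHom.ker (f.stalkMap y).hom
  induction n with
  | zero =>
    haveI : Subsingleton (A ⧸ J ^ 0) := Ideal.Quotient.subsingleton_iff.mpr (by rw [pow_zero, Ideal.one_eq_top])
    infer_instance
  | succ k ih =>
    haveI := ih (fun j hj => hflat j (hj.trans k.lt_succ_self))
    let M := St (ClSub.idealMod (f.ker ^ k)) (f y)
    let G := St (PrinPart.grMod f k) y
    let P := (stalkPullbackIso f y).app (ClSub.idealMod (f.ker ^ k))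
    letI : Module B M := Module.compHom M γ.hom
    haveI : IsScalarTower B A M := IsScalarTower.of_algebraMap_smul fun _ _ => rfl
    letI : Algebra B O := (γ ≫ f.stalkMap y).hom.toAlgebra
    letI : Module B G := Module.compHom G (γ ≫ f.stalkMap y).hom
    haveI : IsScalarTower B O G := IsScalarTower.of_algebraMap_smul fun _ _ => rfl
    haveI : Module.Flat O G := hflat k k.lt_succ_self
    haveI : Module.Flat B O := Module.Flat.of_linearEquiv
      (LinearEquiv.ofBijective (Algebra.linearMap B O) he).symm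
    haveI : Module.Flat B G := Module.Flat.trans B O G
    let Φ : M →ₗ[B] G :=
      { toFun := fun m => P.inv (unitN f k y m)
        map_add' := fun m m' => (congrArg P.inv (map_add (unitN f k y) m m')).trans (map_add P.inv.hom _ _)
        map_smul' := fun b m =>
          (congrArg P.inv (unitN_smul f k y (γ b) m)).trans (map_smul P.inv.hom _ _) }
    have hΦs : Function.Surjective Φ := (ConcreteCategory.bijective_of_isIso P.inv).2.comp (unitN_surjective f k y)
    let Q := A ⧸ J ^ (k + 1)
    let ψ : M →ₗ[B] Q := ((J ^ (k + 1)).mkQ.restrictScalars B).comp ((val (f.ker ^ k) (f y)).restrictScalars B)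
    have hker : LinearMap.ker Φ = LinearMap.ker ψ := by
      ext m
      rw [LinearMap.mem_ker, LinearMap.mem_ker]
      refine Iff.trans ?_ ((Submodule.Quotient.mk_eq_zero _).trans (unitN_eq_zero_iff f k y m).symm).symm
      exact ⟨fun h => (ConcreteCategory.bijective_of_isIso P.inv).1 (h.trans (map_zero P.inv.hom).symm),
        fun h => (congrArg P.inv h).trans (map_zero P.inv.hom)⟩
    let E : LinearMap.range ψ ≃ₗ[B] G := ψ.quotKerEquivRange.symm.trans
      ((Submodule.quotEquivOfEq _ _ hker.symm).trans (Φ.quotKerEquivOfSurjective hΦs))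
    haveI : Module.Flat B (LinearMap.range ψ) := Module.Flat.of_linearEquiv E
    let π : Q →ₗ[B] A ⧸ J ^ k :=
      (Submodule.factor (Ideal.pow_le_pow_right k.le_succ : J ^ (k + 1) ≤ J ^ k)).restrictScalars B
    refine CAlgUI.flat_middle (f := (LinearMap.range ψ).subtype) (g := π) Subtype.coe_injective ?_
      (fun z => by
        obtain ⟨z, rfl⟩ := Submodule.Quotient.mk_surjective _ z
        exact ⟨Submodule.Quotient.mk z, rfl⟩)
    intro z
    obtain ⟨a, rfl⟩ := Submodule.Quotient.mk_surjective _ z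
    constructor
    · intro h
      have ha : a ∈ J ^ k := (Submodule.Quotient.mk_eq_zero _).mp h
      rw [← stI_ker_pow f y k] at ha
      obtain ⟨m, hm⟩ := ha
      refine ⟨⟨_, m, rfl⟩, ?_⟩
      show Submodule.Quotient.mk (val (f.ker ^ k) (f y) m) = Submodule.Quotient.mk a
      rw [rep_unique _ (rep_val _ _ m) hm]
    · rintro ⟨⟨_, m, rfl⟩, hm⟩
      rw [← hm]
      refine (Submodule.Quotient.mk_eq_zero _).mpr ?_
      show val (f.ker ^ k) (f y) m ∈ RingHom.ker (f.stalkMap y).hom ^ k
      rw [← stI_ker_pow f y k]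
      exact val_mem _ _ m

theorem isIso_gr {v : X' ⟶ X} {u : Y' ⟶ Y} {g' : X' ⟶ Y'} (hf : f ≫ g = 𝟙 Y)
    (hsq : IsPullback v g' g u) (f' : Y' ⟶ X') [IsImmersion f'] [QuasiCompact f']
    (hsq' : IsPullback f' u v f) (n : ℕ) (hflat : ∀ k < n, FlatMod.IsFlat (PrinPart.grMod f k))
    (φ : (Scheme.Modules.pullback u).obj (PrinPart.grMod f n) ⟶ PrinPart.grMod f' n)
    (hφ : PrinPart.IsGrMap f' f v u n φ) : IsIso φ := by
  haveI : Epi φ := GrBC.epi f' f v u n φ hφ hsq'
  haveI : Mono φ := by
    refine GrBC.mono f' f v u n φ hφ hsq' fun y => ?_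
    have hp : f (u y) = v (f' y) := congr($(hsq'.w.symm) y)
    let c := X.presheaf.stalkCongr (.of_eq hp)
    let p := f' y
    let d := c.hom ≫ v.stalkMap p
    have hd : d = ConormalBC.δ f' f v u hsq'.w.symm y := rfl
    let B := Y.presheaf.stalk (g (v p))
    let γ : B ⟶ X.presheaf.stalk (f (u y)) := g.stalkMap (v p) ≫ c.inv
    have he : Function.Bijective (γ ≫ f.stalkMap (u y)) := by
      haveI := isIso_retraction g f hf (u y) (v p) hp
      rw [show γ ≫ f.stalkMap (u y) = g.stalkMap (v p) ≫ c.inv ≫ f.stalkMap (u y) from Category.assoc _ _ _]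
      exact ConcreteCategory.bijective_of_isIso (g.stalkMap (v p) ≫ c.inv ≫ f.stalkMap (u y))
    have hγ : γ ≫ d = g.stalkMap (v p) ≫ v.stalkMap p := by simp [γ, d]
    obtain ⟨Φ, hΦ, hΦa⟩ := GrAlg.flat_of_univ γ (baseStalk hsq p) d (g'.stalkMap p)
      (hγ.trans (baseStalk_comp hsq p))
      (fun E l₁ l₂ h1 h2 => stalk_pullback_ext hsq p
        ((cancel_epi c.hom).1 (by rw [← Category.assoc, ← Category.assoc]; exact h1)) h2)
      (fun E _ π _ α β hc hα hβ => by
        obtain ⟨l, h1, h2⟩ := exists_stalk_pullback_lift hsq p π (c.inv ≫ α) β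
          (by rw [← hc]; simp [γ]) (by rw [Category.assoc, hα]; simp [d]) hβ
        exact ⟨l, by simp [d, h1], h2⟩)
    letI := γ.hom.toAlgebra
    letI := (baseStalk hsq p).hom.toAlgebra
    letI := (ConormalBC.δ f' f v u hsq'.w.symm y).hom.toAlgebra
    letI := Φ.toAlgebra
    haveI : IsScalarTower (X.presheaf.stalk (f (u y)))
        (X.presheaf.stalk (f (u y)) ⊗[B] Y'.presheaf.stalk (g' p)) (X'.presheaf.stalk p) :=
      IsScalarTower.of_algebraMap_eq fun a => (hΦa a).symm
    haveI : Module.Flat (X.presheaf.stalk (f (u y)) ⊗[B] Y'.presheaf.stalk (g' p)) (X'.presheaf.stalk p) := hΦ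
    refine GrAlg.lTensor_injective (B := B) (B' := Y'.presheaf.stalk (g' p)) _ (val_injective _ _) ?_
    rw [range_val, stI_ker_pow f (u y) n]
    exact flat_quot f (u y) γ he n fun k hk => hflat k hk (u y)
  exact isIso_of_mono_of_epi φ

theorem isPullback_section {v : X' ⟶ X} {u : Y' ⟶ Y} {g' : X' ⟶ Y'} (hf : f ≫ g = 𝟙 Y)
    (hsq : IsPullback v g' g u) {f' : Y' ⟶ X'} (hf' : f' ≫ g' = 𝟙 Y') (hf'v : f' ≫ v = u ≫ f) :
    IsPullback f' u v f := by
  refine IsPullback.of_right ?_ hf'v hsq.flip
  rw [hf', hf]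
  exact IsPullback.of_horiz_isIso ⟨by simp⟩

theorem isFlatAt_gr_zero (y : Y) : FlatMod.IsFlatAt (PrinPart.grMod f 0) y := by
  let A := X.presheaf.stalk (f y)
  let O := Y.presheaf.stalk y
  let M := St (ClSub.idealMod (f.ker ^ 0)) (f y)
  letI : Algebra A O := (f.stalkMap y).hom.toAlgebra
  have hs : Function.Surjective (val (f.ker ^ 0) (f y)) := by
    rw [← LinearMap.range_eq_top, range_val, stI_ker_pow f y 0, pow_zero, Ideal.one_eq_top]
  haveI : Module.Flat A M := Module.Flat.of_linearEquiv (LinearEquiv.ofBijective _ ⟨val_injective _ _, hs⟩)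
  haveI : Module.Flat O (O ⊗[A] M) := Module.Flat.baseChange A O M
  exact Module.Flat.of_linearEquiv (M := O ⊗[A] M) (N := St (PrinPart.grMod f 0) y)
    ((stalkPullbackIso f y).app (ClSub.idealMod (f.ker ^ 0))).toLinearEquiv

end Groth.Agent.PPSheaf.GrSection
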