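import Groth.Agent.Synt29.ConormalSeq
import Mathlib.AlgebraicGeometry.Morphisms.FinitePresentation
import Mathlib.RingTheory.Nakayama

/-! An immersion of finite presentation with vanishing conormal stalk is an open immersion nearby. -/

set_option linter.style.haveILetI false
set_option linter.unusedSectionVars false
set_option backward.isDefEq.respectTransparency false
set_option backward.isDefEq.respectTransparency.types false

universe u

open CategoryTheory CategoryTheory.Limits AlgebraicGeometry TopologicalSpace Opposite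

namespace Groth.Agent.PPSheaf

open Groth.Agent.Synt29 Groth.Agent.Synt29.OmegaStalk Groth.Agent.Synt29.ConormalStalk Groth.Agent.Synt29.ConormalSeq

variable {Y X : Scheme.{u}} (j : Y ⟶ X) [IsImmersion j] [QuasiCompact j]

theorem subsingleton_conormal_iff (y : Y) :
    Subsingleton ((Omega.conormal j).presheaf.stalk y) ↔
      RingHom.ker (j.stalkMap y).hom ≤ RingHom.ker (j.stalkMap y).hom ^ 2 := by
  let P := ((KFlatLib.stalkPullbackIso j y).app (ConormalStalk.I j)).toLinearEquiv
  constructor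
  · intro hs a ha
    obtain ⟨m, hm⟩ := exists_rep j (RingHom.mem_ker.1 ha)
    refine mem_sq_of_unit1_eq_zero j (j.stalkMap_surjective y) hm ?_
    haveI : Subsingleton (St (Omega.conormal j) y) := hs
    exact P.symm.injective (Subsingleton.elim (α := St (Omega.conormal j) y) _ _)
  · intro h
    have : ∀ z : St (Omega.conormal j) y, z = 0 := fun z => by
      obtain ⟨m, hm⟩ := unit1_surjective j y (P z)
      obtain ⟨a, ha⟩ := rep_exists j (j y) m
      refine P.injective ?_
      rw [map_zero, ← hm]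
      exact unit1_eq_zero_of_mem_sq j ha (h (RingHom.mem_ker.2 (rep_mem j ha)))
    exact ⟨fun a b => (this a).trans (this b).symm⟩

theorem exists_isOpenImmersion [LocallyOfFinitePresentation j] (y : Y)
    (h : RingHom.ker (j.stalkMap y).hom ≤ RingHom.ker (j.stalkMap y).hom ^ 2) :
    ∃ U : Y.Opens, y ∈ U ∧ IsOpenImmersion (U.ι ≫ j) := by
  let c := j.liftCoborder
  let O := j.coborderRange
  obtain ⟨_, ⟨V, hV, rfl⟩, hyV, hVO⟩ := X.isBasis_affineOpens.exists_subset_of_mem_open
    (show j y ∈ (O : Set X) from by rw [← j.liftCoborder_ι]; exact (c y).2) O.2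
  have hyW : y ∈ j ⁻¹ᵁ V := hyV
  have hW : IsAffineOpen (j ⁻¹ᵁ V) := by
    rw [← j.liftCoborder_ι, Scheme.Hom.comp_preimage]
    exact (hV.preimage_of_isOpenImmersion O.ι (by rw [Scheme.Opens.opensRange_ι]; exact hVO)).preimage c
  haveI : IsAffine (V : Scheme.{u}) := hV
  haveI : IsAffine (j ⁻¹ᵁ V : Scheme.{u}) := hW
  -- over an affine open in the coborder the immersion is closed
  have hclosed : ∀ D : X.Opens, D ≤ O → IsAffineOpen D → Function.Surjective (j.app D) := by
    intro D hD hDaff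
    have hs : Function.Surjective (c.app (O.ι ⁻¹ᵁ D)) :=
      c.app_surjective _ (hDaff.preimage_of_isOpenImmersion O.ι (by rw [Scheme.Opens.opensRange_ι]; exact hD))
    have hi : Function.Bijective (O.ι.app D) := by
      haveI : IsIso (O.ι.app D) := O.ι.isIso_app D (by rw [Scheme.Opens.opensRange_ι]; exact hD)
      exact ConcreteCategory.bijective_of_isIso _
    rw [Scheme.Hom.congr_app j.liftCoborder_ι.symm D]
    have h1 : Function.Surjective ((c ≫ O.ι).app D) := fun b => by
      obtain ⟨b', rfl⟩ := hs b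
      obtain ⟨a, rfl⟩ := hi.2 b'
      exact ⟨a, by rw [Scheme.Hom.comp_app, CommRingCat.comp_apply]; rfl⟩
    intro b
    obtain ⟨b', rfl⟩ := (ConcreteCategory.bijective_of_isIso (Y.presheaf.map (eqToHom
      (by rw [j.liftCoborder_ι] : j ⁻¹ᵁ D = (c ≫ O.ι) ⁻¹ᵁ D)).op)).2 b
    obtain ⟨a, rfl⟩ := h1 b'
    exact ⟨a, CommRingCat.comp_apply _ _ a⟩
  let φ := (j.app V).hom
  have hφ : Function.Surjective φ := hclosed V hVO hV
  have hfg : (RingHom.ker φ).FG := by
    letI := φ.toAlgebra
    haveI : Algebra.FinitePresentation Γ(X, V) Γ(Y, j ⁻¹ᵁ V) := by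
      have := j.finitePresentation_appLE hV hW le_rfl
      rwa [← Scheme.Hom.app_eq_appLE] at this
    exact Algebra.FinitePresentation.ker_fG_of_surjective (Algebra.ofId Γ(X, V) Γ(Y, j ⁻¹ᵁ V)) hφ
  -- the kernel at the stalk
  letI := X.presheaf.algebra_section_stalk (U := V) ⟨j y, hyV⟩
  haveI := hV.isLocalization_stalk ⟨j y, hyV⟩
  letI := Y.presheaf.algebra_section_stalk (U := j ⁻¹ᵁ V) ⟨y, hyW⟩
  haveI := hW.isLocalization_stalk ⟨y, hyW⟩
  let p := (hV.primeIdealOf ⟨j y, hyV⟩).asIdeal
  let K := (RingHom.ker φ).map (algebraMap Γ(X, V) (X.presheaf.stalk (j y)))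
  have hK : RingHom.ker (j.stalkMap y).hom = K := by
    refine le_antisymm (fun a ha => ?_) (Ideal.map_le_iff_le_comap.2 fun r hr => ?_)
    · obtain ⟨⟨r, s⟩, hrs⟩ := IsLocalization.surj p.primeCompl a
      have h0 : algebraMap Γ(Y, j ⁻¹ᵁ V) (Y.presheaf.stalk y) (φ r) = 0 := by
        refine (Scheme.Hom.germ_stalkMap_apply j V y hyW r).symm.trans ?_
        show (j.stalkMap y) (algebraMap Γ(X, V) (X.presheaf.stalk (j y)) r) = 0
        rw [← hrs, map_mul, RingHom.mem_ker.1 ha, zero_mul]
      obtain ⟨⟨t, ht⟩, h1⟩ := (IsLocalization.map_eq_zero_iff (hW.primeIdealOf ⟨y, hyW⟩).asIdeal.primeCompl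
        (Y.presheaf.stalk y) (φ r)).1 h0
      obtain ⟨t', rfl⟩ := hφ t
      have hu : IsUnit (algebraMap Γ(X, V) (X.presheaf.stalk (j y)) t') := by
        refine isUnit_of_map_unit (j.stalkMap y).hom _ ?_
        have := IsLocalization.map_units (Y.presheaf.stalk y) (⟨φ t', ht⟩ : (hW.primeIdealOf ⟨y, hyW⟩).asIdeal.primeCompl)
        exact ((Scheme.Hom.germ_stalkMap_apply j V y hyW t').symm ▸ this :)
      have hm : algebraMap Γ(X, V) (X.presheaf.stalk (j y)) (t' * r) ∈ K :=
        Ideal.mem_map_of_mem _ (by rw [RingHom.mem_ker, map_mul]; exact h1)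
      rw [map_mul, Ideal.unit_mul_mem_iff_mem K hu, ← hrs] at hm
      exact (Ideal.mul_unit_mem_iff_mem K (IsLocalization.map_units _ s)).1 hm
    · show (j.stalkMap y) (algebraMap Γ(X, V) (X.presheaf.stalk (j y)) r) = 0
      refine (Scheme.Hom.germ_stalkMap_apply j V y hyW r).trans ?_
      exact (congrArg _ (RingHom.mem_ker.1 hr)).trans (map_zero _)
  have hbot : K = ⊥ := by
    refine Submodule.eq_bot_of_le_smul_of_le_jacobson_bot K K (Ideal.FG.map hfg _) ?_ ?_
    · rw [hK, sq] at h; exact h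
    · rw [IsLocalRing.jacobson_eq_maximalIdeal ⊥ bot_ne_top, ← hK]
      exact IsLocalRing.le_maximalIdeal (RingHom.ker_ne_top _)
  classical
  obtain ⟨G, hG⟩ := hfg
  have hloc : ∀ g ∈ G, ∃ t : p.primeCompl, (t : Γ(X, V)) * g = 0 := fun g hg => by
    have : algebraMap Γ(X, V) (X.presheaf.stalk (j y)) g ∈ K :=
      Ideal.mem_map_of_mem _ (hG ▸ Submodule.subset_span hg)
    rw [hbot, Submodule.mem_bot] at this
    exact (IsLocalization.map_eq_zero_iff p.primeCompl _ g).1 this
  choose! tg htg using hloc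
  let t : Γ(X, V) := ∏ g ∈ G, (tg g : Γ(X, V))
  have htk : ∀ r ∈ RingHom.ker φ, t * r = 0 := by
    intro r hr
    rw [← hG] at hr
    induction hr using Submodule.span_induction with
    | mem g hg =>
      show (∏ g ∈ G, (tg g : Γ(X, V))) * g = 0
      rw [← Finset.prod_erase_mul _ _ hg, mul_assoc, htg g hg, mul_zero]
    | zero => exact mul_zero _
    | add a b _ _ ha hb => rw [mul_add, ha, hb, add_zero]
    | smul a b _ hb => rw [smul_eq_mul, mul_left_comm, hb, mul_zero]
  let D := X.basicOpen t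
  have hyD : j y ∈ D := by
    rw [Scheme.mem_basicOpen X t (j y) hyV]
    exact IsLocalization.map_units (X.presheaf.stalk (j y))
      (⟨t, prod_mem fun g _ => (tg g).2⟩ : p.primeCompl)
  have hD : IsAffineOpen D := hV.basicOpen t
  have hjD : j ⁻¹ᵁ D = Y.basicOpen (φ t) := Scheme.preimage_basicOpen j t
  haveI := hV.isLocalization_basicOpen t
  haveI := hW.isLocalization_basicOpen (φ t)
  have hinj : Function.Injective (j.app D) := by
    refine (injective_iff_map_eq_zero (j.app D).hom).2 fun a ha => ?_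
    obtain ⟨⟨r, s⟩, hrs⟩ := IsLocalization.surj (Submonoid.powers t) (S := Γ(X, D)) a
    have hnat : ∀ r : Γ(X, V), j.app D (algebraMap Γ(X, V) Γ(X, D) r) =
        Y.presheaf.map (homOfLE (j.preimage_mono (X.basicOpen_le t))).op (φ r) := fun r =>
      congr($(j.naturality (homOfLE (X.basicOpen_le t)).op) r)
    have h0 : algebraMap Γ(Y, j ⁻¹ᵁ V) Γ(Y, Y.basicOpen (φ t)) (φ r) = 0 := by
      have h1 : Y.presheaf.map (homOfLE (j.preimage_mono (X.basicOpen_le t))).op (φ r) = 0 := by
        rw [← hnat, ← hrs, map_mul]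
        exact mul_eq_zero_of_left ha _
      have h2 := congrArg (Y.presheaf.map (homOfLE hjD.ge).op) h1
      rw [map_zero] at h2
      rw [← h2, ← CommRingCat.comp_apply, ← Functor.map_comp]
      rfl
    obtain ⟨⟨_, k, rfl⟩, hk⟩ := (IsLocalization.map_eq_zero_iff (Submonoid.powers (φ t))
      Γ(Y, Y.basicOpen (φ t)) (φ r)).1 h0
    have h3 : t * (t ^ k * r) = 0 := htk _ (by rw [RingHom.mem_ker, map_mul, map_pow]; exact hk)
    have h4 : algebraMap Γ(X, V) Γ(X, D) r = 0 := by
      refine (IsLocalization.map_eq_zero_iff (Submonoid.powers t) _ r).2 ⟨⟨t ^ (k + 1), k + 1, rfl⟩, ?_⟩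
      show t ^ (k + 1) * r = 0
      rw [pow_succ', mul_assoc, h3]
    rw [← hrs] at h4
    exact (IsUnit.mul_left_eq_zero (IsLocalization.map_units _ s)).1 h4
  have hb : Function.Bijective (j.app D) := ⟨hinj, hclosed D ((X.basicOpen_le t).trans hVO) hD⟩
  haveI : IsAffine (D : Scheme.{u}) := hD
  haveI : IsAffine (j ⁻¹ᵁ D : Scheme.{u}) := by
    have := hW.basicOpen (φ t)
    rw [← hjD] at this
    exact this
  haveI : IsIso (j ∣_ D).appTop := by
    rw [ConcreteCategory.isIso_iff_bijective, morphismRestrict_appTop]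
    have key : ∀ D' : X.Opens, D' = D → Function.Bijective (j.app D') := by rintro _ rfl; exact hb
    have h1 := key _ D.ι_image_top
    refine ⟨fun a b hab => h1.1 ?_, fun b => ?_⟩
    · rw [CommRingCat.comp_apply, CommRingCat.comp_apply] at hab
      exact (ConcreteCategory.bijective_of_isIso _).1 hab
    · obtain ⟨b', rfl⟩ := (ConcreteCategory.bijective_of_isIso (Y.presheaf.map (eqToHom
        (show (j ⁻¹ᵁ D).ι ''ᵁ ⊤ = j ⁻¹ᵁ (D.ι ''ᵁ ⊤) by rw [Scheme.Opens.ι_image_top, Scheme.Opens.ι_image_top])).op)).2 b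
      obtain ⟨a, rfl⟩ := h1.2 b'
      exact ⟨a, CommRingCat.comp_apply _ _ a⟩
  haveI : IsIso (j ∣_ D) :=
    (HasAffineProperty.iff_of_isAffine (P := MorphismProperty.isomorphisms Scheme) (f := j ∣_ D)).2
      ⟨inferInstance, inferInstance⟩
  refine ⟨j ⁻¹ᵁ D, hyD, ?_⟩
  rw [← morphismRestrict_ι]
  infer_instance

end Groth.Agent.PPSheaf
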