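import Groth.Agent.PPSheaf.Finite

/-! The first order identity for `d^1`. -/

set_option linter.style.haveILetI false
set_option backward.isDefEq.respectTransparency false
set_option backward.isDefEq.respectTransparency.types false
set_option autoImplicit false

universe u

open CategoryTheory CategoryTheory.Limits AlgebraicGeometry TopologicalSpace Opposite
open scoped TensorProduct

namespace Groth.Agent.PPSheaf

variable {X S : Scheme.{u}} (f : X ⟶ S) (n : ℕ)

/-- The right structure map over an open. -/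
noncomputable abbrev rightApp (U : X.Opens) : Γ(X, U) →+* Γ(PrinPart.nbhd f n, PrinPart.pr1 f n ⁻¹ᵁ U) :=
  ((PrinPart.pr2 f n).appLE U (PrinPart.pr1 f n ⁻¹ᵁ U) (PrinPart.preimage_pr1 f n U).le).hom

theorem right_sub_left_pow (U : X.Opens) (b : Fin (n + 1) → Γ(X, U)) :
    ∏ i, (rightApp f n U (b i) - (PrinPart.pr1 f n).app U (b i)) = 0 := by
  let φ := PrinPart.pr1 f n
  refine TopCat.Sheaf.eq_of_locally_eq' (PrinPart.nbhd f n).sheaf
    (fun V : {V : Small f // V.1.1 ≤ U} => φ ⁻¹ᵁ V.1.1.1) _ (fun V => homOfLE (φ.preimage_mono V.2)) ?_ _ _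
    fun V => ?_
  · intro z hz
    obtain ⟨_, ⟨V₀, hV₀, rfl⟩, hzV, -⟩ :=
      S.isBasis_affineOpens.exists_subset_of_mem_open (Set.mem_univ (f (φ z))) isOpen_univ
    obtain ⟨_, ⟨W, hW, rfl⟩, hzW, hWle⟩ :=
      X.isBasis_affineOpens.exists_subset_of_mem_open (show φ z ∈ ((f ⁻¹ᵁ V₀) ⊓ U : X.Opens) from ⟨hzV, hz⟩)
        (f ⁻¹ᵁ V₀ ⊓ U).isOpen
    exact Opens.mem_iSup.mpr ⟨⟨⟨⟨W, hW⟩, ⟨V₀, hV₀⟩, fun _ h => (hWle h).1⟩, fun _ h => (hWle h).2⟩, hzW⟩
  · obtain ⟨⟨W, V₀, e⟩, hle⟩ := V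
    letI := (f.appLE V₀.1 W.1 e).hom.toAlgebra
    obtain ⟨-, ψ, -, hker, hl, hr⟩ := exists_chart f V₀ W e n rfl
    let r := ((PrinPart.nbhd f n).presheaf.map (homOfLE (φ.preimage_mono hle)).op).hom
    show r (∏ i, _) = r 0
    rw [map_zero, map_prod]
    let c : Fin (n + 1) → Γ(X, W.1) := fun i => X.presheaf.map (homOfLE hle).op (b i)
    have h1 : ∀ i, r (rightApp f n U (b i) - φ.app U (b i)) = ψ (1 ⊗ₜ c i - c i ⊗ₜ 1) := fun i => by
      rw [map_sub, map_sub, hl, hr]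
      congr 1
      · show ((PrinPart.pr2 f n).appLE U (φ ⁻¹ᵁ U) (PrinPart.preimage_pr1 f n U).le ≫
            (PrinPart.nbhd f n).presheaf.map (homOfLE (φ.preimage_mono hle)).op) (b i) =
          (X.presheaf.map (homOfLE hle).op ≫
            (PrinPart.pr2 f n).appLE W.1 (φ ⁻¹ᵁ W.1) (PrinPart.preimage_pr1 f n W.1).le) (b i)
        rw [Scheme.Hom.appLE_map, Scheme.Hom.map_appLE]
      · exact congr($(φ.naturality (homOfLE hle).op) (b i)).symm
    rw [Finset.prod_congr rfl fun i _ => h1 i, ← map_prod, ← RingHom.mem_ker, hker]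
    have h := Ideal.prod_mem_prod (s := (Finset.univ : Finset (Fin (n + 1))))
      (I := fun _ => KaehlerDifferential.ideal Γ(S, V₀.1) Γ(X, W.1))
      fun i _ => KaehlerDifferential.one_smul_sub_smul_one_mem_ideal _ (c i)
    simpa using h

/-- `d^n a` is `a` acting on `d^n 1` through the right structure. -/
theorem dn_eq (U : X.Opens) (a : Γ(X, U)) :
    PrinPart.dn f n U a = ((rightApp f n U a •
      (show Γ((Scheme.Modules.pullback (PrinPart.pr2 f n)).obj (Coh.structureModule X),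
        PrinPart.pr1 f n ⁻¹ᵁ U) from PrinPart.dn f n U 1)) :
      Γ((Scheme.Modules.pullback (PrinPart.pr2 f n)).obj (Coh.structureModule X), PrinPart.pr1 f n ⁻¹ᵁ U)) := by
  show PrinPart.dP f n _ U (OmegaSh.strSect X U a) = _
  rw [← mul_one a, OmegaSh.strSect_mul, mul_one, PrinPart.dP_apply, OmegaSh.pullSect_smul,
    Scheme.Modules.map_smul]
  rfl

theorem dn_leibniz (U : X.Opens) (a b : Γ(X, U)) :
    PrinPart.dn f 1 U (a * b) =
      a • PrinPart.dn f 1 U b + b • PrinPart.dn f 1 U a - (a * b) • PrinPart.dn f 1 U 1 := by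
  let N := (Scheme.Modules.pullback (PrinPart.pr2 f 1)).obj (Coh.structureModule X)
  let R := rightApp f 1 U
  let L := ((PrinPart.pr1 f 1).app U).hom
  let e : Γ(N, PrinPart.pr1 f 1 ⁻¹ᵁ U) := PrinPart.dn f 1 U 1
  have hs : ∀ (c : Γ(X, U)) (x : Γ(N, PrinPart.pr1 f 1 ⁻¹ᵁ U)),
      (c • (show Γ(PrinPart.P f 1, U) from x) : Γ(PrinPart.P f 1, U)) = L c • x := fun c x =>
    QCoh.pushforward_smul _ _ _ _
  have h := right_sub_left_pow f 1 U ![a, b]
  rw [Fin.prod_univ_two, Matrix.cons_val_zero, Matrix.cons_val_one, Matrix.cons_val_zero] at h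
  rw [dn_eq f 1 U (a * b), dn_eq f 1 U a, dn_eq f 1 U b]
  erw [hs, hs, hs]
  show R (a * b) • e = L a • R b • e + L b • R a • e - L (a * b) • e
  rw [smul_smul, smul_smul, ← add_smul, ← sub_smul, map_mul, map_mul]
  congr 1
  linear_combination h

/-- The two structures agree on functions of the base. -/
theorem dn_base (V : S.Opens) (c : Γ(S, V)) :
    PrinPart.dn f n (f ⁻¹ᵁ V) (f.app V c) = (f.app V c) • PrinPart.dn f n (f ⁻¹ᵁ V) 1 := by
  rw [dn_eq]
  erw [QCoh.pushforward_smul]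
  congr 1
  show (f.app V ≫ (PrinPart.pr2 f n).appLE _ _ _) c = (f.app V ≫ (PrinPart.pr1 f n).app _) c
  rw [Scheme.Hom.app_eq_appLE (f := PrinPart.pr1 f n), Scheme.Hom.app_eq_appLE (f := f),
    Scheme.Hom.appLE_comp_appLE, Scheme.Hom.appLE_comp_appLE,
    appLE_congr_hom (PrinPart.pr1_comp f n).symm V _ _]

end Groth.Agent.PPSheaf
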