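import Mathlib.RingTheory.Kaehler.Basic
import Mathlib.RingTheory.IsTensorProduct

/-! Base change of algebraic principal parts. -/

set_option linter.style.haveILetI false
set_option linter.unusedSectionVars false
set_option autoImplicit false

universe u

open scoped TensorProduct

namespace Groth.Agent.PPSheaf.PBAlg

/-- Maps out of a tensor square into a quotient. -/
theorem quot_hom_ext {A B T : Type u} [CommRing A] [CommRing B] [Algebra A B] [CommRing T] (J : Ideal (B ⊗[A] B))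
    {g h : (B ⊗[A] B) ⧸ J →+* T}
    (h₁ : ∀ b, g (Ideal.Quotient.mk J (b ⊗ₜ 1)) = h (Ideal.Quotient.mk J (b ⊗ₜ 1)))
    (h₂ : ∀ b, g (Ideal.Quotient.mk J (1 ⊗ₜ b)) = h (Ideal.Quotient.mk J (1 ⊗ₜ b))) : g = h := by
  refine Ideal.Quotient.ringHom_ext (RingHom.ext fun z => ?_)
  induction z using TensorProduct.induction_on with
  | zero => simp
  | add a b ha hb => simp only [map_add, ha, hb]
  | tmul a b =>
    rw [show a ⊗ₜ[A] b = (a ⊗ₜ 1) * (1 ⊗ₜ b) by simp, map_mul, map_mul, RingHom.comp_apply,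
      RingHom.comp_apply, RingHom.comp_apply, RingHom.comp_apply, h₁, h₂]

theorem ideal_eq (A B : Type u) [CommRing A] [CommRing B] [Algebra A B] :
    KaehlerDifferential.ideal A B = Ideal.span (Set.range fun s : B => (1 : B) ⊗ₜ[A] s - s ⊗ₜ 1) :=
  (KaehlerDifferential.span_range_eq_ideal A B).symm

theorem main (A B A' B' : Type u) [CommRing A] [CommRing B] [CommRing A'] [CommRing B']
    [Algebra A B] [Algebra A A'] [Algebra A B'] [Algebra A' B'] [Algebra B B']
    [IsScalarTower A A' B'] [IsScalarTower A B B'] [Algebra.IsPushout A A' B B'] (n : ℕ) :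
    ∃ e : B' ⊗[B] ((B ⊗[A] B) ⧸ KaehlerDifferential.ideal A B ^ (n + 1)) ≃+
        (B' ⊗[A'] B') ⧸ KaehlerDifferential.ideal A' B' ^ (n + 1),
      ∀ (b' : B') (a b : B), e (b' ⊗ₜ Ideal.Quotient.mk _ (a ⊗ₜ b)) =
        Ideal.Quotient.mk _ ((b' * algebraMap B B' a) ⊗ₜ algebraMap B B' b) := by
  let I := KaehlerDifferential.ideal A B
  let I' := KaehlerDifferential.ideal A' B'
  let Q := (B ⊗[A] B) ⧸ I ^ (n + 1)
  let Q' := (B' ⊗[A'] B') ⧸ I' ^ (n + 1)
  let T := B' ⊗[B] Q
  letI : CommRing T := inferInstanceAs (CommRing (B' ⊗[B] Q))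
  let q : (B ⊗[A] B) →ₐ[B] Q := Ideal.Quotient.mkₐ B _
  let q' : (B' ⊗[A'] B') →ₐ[B'] Q' := Ideal.Quotient.mkₐ B' _
  -- left and right structures on `Q'`
  let uu : (B ⊗[A] B) →+* Q' := q'.toRingHom.comp
    (Algebra.TensorProduct.lift
      ((Algebra.TensorProduct.includeLeft : B' →ₐ[A] B' ⊗[A'] B').comp (IsScalarTower.toAlgHom A B B'))
      (((Algebra.TensorProduct.includeRight : B' →ₐ[A'] B' ⊗[A'] B').restrictScalars A).comp
        (IsScalarTower.toAlgHom A B B')) fun _ _ => Commute.all _ _).toRingHom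
  have huu : ∀ a b : B, uu (a ⊗ₜ b) = q' (algebraMap B B' a ⊗ₜ algebraMap B B' b) := fun a b => by
    simp [uu]
  have hI : I ^ (n + 1) ≤ RingHom.ker uu := by
    have h1 : I ≤ (I'.map q'.toRingHom).comap uu := by
      rw [show I = _ from ideal_eq A B, Ideal.span_le]
      rintro _ ⟨s, rfl⟩
      show uu (1 ⊗ₜ s - s ⊗ₜ 1) ∈ I'.map q'.toRingHom
      rw [map_sub, huu, huu, map_one, ← map_sub]
      exact Ideal.mem_map_of_mem q'.toRingHom (KaehlerDifferential.one_smul_sub_smul_one_mem_ideal A' _)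
    refine (Ideal.pow_right_mono h1 _).trans ((Ideal.le_comap_pow _ _).trans fun z hz => ?_)
    rw [Ideal.mem_comap, ← Ideal.map_pow, show (I' ^ (n + 1)).map q'.toRingHom = ⊥ from Ideal.map_quotient_self _,
      Ideal.mem_bot] at hz
    exact hz
  let v₀ : Q →+* Q' := Ideal.Quotient.lift _ uu hI
  have hv₀ : ∀ a b : B, v₀ (q (a ⊗ₜ b)) = q' (algebraMap B B' a ⊗ₜ algebraMap B B' b) := huu
  have hv : ∀ b : B, v₀ (q (b ⊗ₜ 1)) = q' (algebraMap B B' b ⊗ₜ 1) := fun b => by
    rw [hv₀, map_one]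
  let v : Q →ₐ[B] Q' := ⟨v₀, hv⟩
  let F : T →ₐ[B'] Q' := Algebra.TensorProduct.lift (Algebra.ofId B' Q') v fun _ _ => Commute.all _ _
  have hF : ∀ (b' : B') (a b : B), F (b' ⊗ₜ q (a ⊗ₜ b)) = q' ((b' * algebraMap B B' a) ⊗ₜ algebraMap B B' b) := by
    intro b' a b
    show algebraMap B' Q' b' * v₀ (q (a ⊗ₜ b)) = _
    rw [hv₀]
    show q' (b' ⊗ₜ 1) * q' _ = _
    rw [← map_mul, Algebra.TensorProduct.tmul_mul_tmul, one_mul]
  -- the inverse
  let r₀ : B →+* T := (Algebra.TensorProduct.includeRight : Q →ₐ[B] T).toRingHom.comp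
    (q.toRingHom.comp (Algebra.TensorProduct.includeRight : B →ₐ[A] B ⊗[A] B).toRingHom)
  have hr : ∀ a : A, r₀ (algebraMap A B a) = algebraMap A T a := fun a => by
    show (1 : B') ⊗ₜ[B] q (1 ⊗ₜ algebraMap A B a) = algebraMap A T a
    rw [show (1 : B) ⊗ₜ[A] algebraMap A B a = algebraMap B (B ⊗[A] B) (algebraMap A B a) from
      (Algebra.TensorProduct.algebraMap_apply' a).symm.trans
        (IsScalarTower.algebraMap_apply A B (B ⊗[A] B) a), AlgHom.commutes,
      Algebra.algebraMap_eq_smul_one, TensorProduct.tmul_smul, TensorProduct.smul_tmul', ← Algebra.algebraMap_eq_smul_one,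
      ← IsScalarTower.algebraMap_apply A B B']
    rfl
  let r : B →ₐ[A] T := ⟨r₀, hr⟩
  let R₀ : B' →ₐ[A] T := Algebra.pushoutDesc B' (IsScalarTower.toAlgHom A A' T) r fun _ _ => mul_comm _ _
  have hRa : ∀ a' : A', R₀ (algebraMap A' B' a') = algebraMap A' T a' := fun a' =>
    Algebra.pushoutDesc_left B' _ _ _ a'
  have hRb : ∀ b : B, R₀ (algebraMap B B' b) = 1 ⊗ₜ q (1 ⊗ₜ b) := fun b =>
    Algebra.pushoutDesc_right B' _ _ _ b
  let R : B' →ₐ[A'] T := ⟨R₀.toRingHom, hRa⟩
  let G₀ : (B' ⊗[A'] B') →ₐ[B'] T := Algebra.TensorProduct.lift (Algebra.ofId B' T) R fun _ _ => Commute.all _ _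
  have hG₀ : ∀ x y : B', G₀ (x ⊗ₜ y) = algebraMap B' T x * R₀ y := fun x y => rfl
  let J : Ideal T := I.map (((Algebra.TensorProduct.includeRight : Q →ₐ[B] T).toRingHom).comp q.toRingHom)
  have hJ : J ^ (n + 1) = ⊥ := by
    rw [← Ideal.map_pow, ← Ideal.map_map, show (I ^ (n + 1)).map q.toRingHom = ⊥ from Ideal.map_quotient_self _,
      Ideal.map_bot]
  have hI' : I' ≤ J.comap G₀.toRingHom := by
    rw [show I' = _ from ideal_eq A' B', Ideal.span_le]
    rintro _ ⟨y, rfl⟩
    show G₀ (1 ⊗ₜ y - y ⊗ₜ 1) ∈ J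
    rw [map_sub, hG₀, hG₀, map_one, map_one, one_mul, mul_one]
    refine Ideal.Quotient.eq.mp ?_
    have := Algebra.IsPushout.algHom_ext (R := A) (S := A') (R' := B) (S' := B') (A := T ⧸ J)
      (f := (Ideal.Quotient.mkₐ A J).comp R₀) (g := (Ideal.Quotient.mkₐ A J).comp (IsScalarTower.toAlgHom A B' T))
      (AlgHom.ext fun b => by
        show Ideal.Quotient.mk J (R₀ (algebraMap B B' b)) = Ideal.Quotient.mk J (algebraMap B' T (algebraMap B B' b))
        rw [hRb, Ideal.Quotient.eq]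
        have e1 : algebraMap B' T (algebraMap B B' b) = (1 : B') ⊗ₜ[B] q (b ⊗ₜ 1) := by
          rw [← IsScalarTower.algebraMap_apply B B' T]
          exact Algebra.TensorProduct.algebraMap_apply' b
        rw [e1, ← TensorProduct.tmul_sub, ← map_sub]
        exact Ideal.mem_map_of_mem _ (KaehlerDifferential.one_smul_sub_smul_one_mem_ideal A b))
      (AlgHom.ext fun a' => by
        show Ideal.Quotient.mk J (R₀ (algebraMap A' B' a')) = Ideal.Quotient.mk J (algebraMap B' T (algebraMap A' B' a'))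
        rw [hRa]
        rfl)
    exact congr($this y)
  have hG : I' ^ (n + 1) ≤ RingHom.ker G₀.toRingHom := by
    refine (Ideal.pow_right_mono hI' _).trans ((Ideal.le_comap_pow _ _).trans fun z hz => ?_)
    rw [Ideal.mem_comap, hJ, Ideal.mem_bot] at hz
    exact hz
  let G : Q' →+* T := Ideal.Quotient.lift _ G₀.toRingHom hG
  have hG' : ∀ x y : B', G (q' (x ⊗ₜ y)) = algebraMap B' T x * R₀ y := hG₀
  have hFG : (F.toRingHom.comp G) = RingHom.id Q' := by
    refine quot_hom_ext _ (fun x => ?_) (fun y => ?_)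
    · show F (G (q' (x ⊗ₜ 1))) = q' (x ⊗ₜ 1)
      rw [hG', map_one, mul_one, AlgHom.commutes]
      rfl
    · show F (G (q' (1 ⊗ₜ y))) = q' (1 ⊗ₜ y)
      rw [hG', map_one, one_mul]
      have := Algebra.IsPushout.algHom_ext (R := A) (S := A') (R' := B) (S' := B') (A := Q')
        (f := (F.restrictScalars A).comp R₀)
        (g := (q'.restrictScalars A).comp ((Algebra.TensorProduct.includeRight : B' →ₐ[A'] B' ⊗[A'] B').restrictScalars A))
        (AlgHom.ext fun b => by
          show F (R₀ (algebraMap B B' b)) = q' (1 ⊗ₜ algebraMap B B' b)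
          rw [hRb, hF, map_one, mul_one])
        (AlgHom.ext fun a' => by
          show F (R₀ (algebraMap A' B' a')) = q' (1 ⊗ₜ algebraMap A' B' a')
          rw [hRa, IsScalarTower.algebraMap_apply A' B' T, AlgHom.commutes]
          show q' (algebraMap A' B' a' ⊗ₜ 1) = _
          rw [Algebra.algebraMap_eq_smul_one, TensorProduct.smul_tmul])
      exact congr($this y)
  have hGF : ∀ t : T, G (F t) = t := by
    intro t
    induction t using TensorProduct.induction_on with
    | zero => rw [map_zero, map_zero]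
    | add a b ha hb => rw [map_add, map_add, ha, hb]
    | tmul b' z =>
      obtain ⟨z, rfl⟩ := Ideal.Quotient.mk_surjective z
      induction z using TensorProduct.induction_on with
      | zero => simp
      | add a b ha hb => rw [map_add, TensorProduct.tmul_add, map_add, map_add, ha, hb]
      | tmul a b =>
        show G (F (b' ⊗ₜ q (a ⊗ₜ b))) = b' ⊗ₜ q (a ⊗ₜ b)
        rw [hF, hG', hRb, Algebra.TensorProduct.algebraMap_apply, Algebra.algebraMap_self, RingHom.id_apply,
          Algebra.TensorProduct.tmul_mul_tmul, mul_one, one_mul, mul_comm, ← Algebra.smul_def, TensorProduct.smul_tmul, ← map_smul,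
          TensorProduct.smul_tmul', smul_eq_mul, mul_one]
  exact ⟨AddEquiv.ofBijective F ⟨fun x y h => by rw [← hGF x, ← hGF y, h], fun z => ⟨G z, congr($hFG z)⟩⟩, hF⟩

end Groth.Agent.PPSheaf.PBAlg
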