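import Groth.Agent.PPSheaf.Finite
import Groth.Agent.PPSheaf.Affine
import Groth.Agent.PPSheaf.PBAlg
import Groth.Agent.Nrm6.PMod
import Groth.Agent.FComplLib.AffMod
import Groth.Agent.QCoh.PullbackBC
import Groth.Agent.QCoh.VanIdeal
import Mathlib.RingTheory.IsTensorProduct

/-! Base change of principal parts. -/

set_option linter.style.haveILetI false
set_option linter.unusedSectionVars false
set_option backward.isDefEq.respectTransparency false
set_option backward.isDefEq.respectTransparency.types false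
set_option autoImplicit false

universe u

open CategoryTheory CategoryTheory.Limits AlgebraicGeometry TopologicalSpace Opposite
open scoped TensorProduct

namespace Groth.Agent.PPSheaf.PBase

/-- Sections of the principal parts over a chart. -/
theorem exists_sect {X S : Scheme.{u}} (f : X ⟶ S) (n : ℕ) (V : S.affineOpens) (U : X.affineOpens)
    (e : U.1 ≤ f ⁻¹ᵁ V.1) [Algebra Γ(S, V.1) Γ(X, U.1)]
    (halg : algebraMap Γ(S, V.1) Γ(X, U.1) = (f.appLE V.1 U.1 e).hom) :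
    ∃ E : ((Γ(X, U.1) ⊗[Γ(S, V.1)] Γ(X, U.1)) ⧸ KaehlerDifferential.ideal Γ(S, V.1) Γ(X, U.1) ^ (n + 1))
        ≃ₗ[Γ(X, U.1)] Γ(PrinPart.P f n, U.1),
      ∀ a b, E (Ideal.Quotient.mk _ (a ⊗ₜ b)) = a • PrinPart.dn f n U.1 b := by
  obtain ⟨-, ψ, hψ, hker, hl, hr⟩ := exists_chart f V U e n halg
  let B := Γ(X, U.1)
  let R := B ⊗[Γ(S, V.1)] B
  let K := KaehlerDifferential.ideal Γ(S, V.1) Γ(X, U.1) ^ (n + 1)
  let bar : R ⧸ K →+* Γ(PrinPart.nbhd f n, PrinPart.pr1 f n ⁻¹ᵁ U.1) :=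
    Ideal.Quotient.lift K ψ fun z hz => RingHom.mem_ker.1 (hker.ge hz)
  have hbar : Function.Bijective bar :=
    ⟨RingHom.lift_injective_of_ker_le_ideal _ _ hker.le, fun z => by
      obtain ⟨t, rfl⟩ := hψ z; exact ⟨Ideal.Quotient.mk K t, rfl⟩⟩
  have hact : Function.Bijective (act f n U.1) := bijective_smul_dn_one f n U.1
  let E₀ : R ⧸ K →+ Γ(PrinPart.P f n, U.1) :=
    AddMonoidHom.mk' (fun z => act f n U.1 (bar z)) fun z z' => by
      rw [map_add]
      exact add_smul (bar z) (bar z') (one' f n U.1)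
  have hE : ∀ a b, E₀ (Ideal.Quotient.mk K (a ⊗ₜ b)) = a • PrinPart.dn f n U.1 b := fun a b => by
    show act f n U.1 (ψ (a ⊗ₜ b)) = _
    rw [show a ⊗ₜ[Γ(S, V.1)] b = (a ⊗ₜ 1) * (1 ⊗ₜ b) by simp, map_mul, hl, hr, smul_dn]
  let E₁ : (R ⧸ K) →ₗ[B] Γ(PrinPart.P f n, U.1) :=
    { toFun := E₀
      map_add' := map_add E₀
      map_smul' := fun c z => by
        obtain ⟨z, rfl⟩ := Ideal.Quotient.mk_surjective z
        induction z using TensorProduct.induction_on with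
        | zero => simp
        | add a b ha hb =>
          rw [RingHom.id_apply] at ha hb ⊢
          rw [map_add, smul_add, map_add, map_add, ha, hb, smul_add]
        | tmul a b =>
          rw [RingHom.id_apply, hE, smul_smul, ← hE]
          rfl }
  exact ⟨LinearEquiv.ofBijective E₁ (hact.comp hbar), hE⟩

variable {X S X' S' : Scheme.{u}} {f : X ⟶ S} {g : S' ⟶ S} {u : X' ⟶ X} {f' : X' ⟶ S'}

theorem bijective_chart (hsq : IsPullback u f' f g) (n : ℕ)
    (φ : (Scheme.Modules.pullback u).obj (PrinPart.P f n) ⟶ PrinPart.P f' n)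
    (hφ : PrinPart.IsPMap f f' u n φ) (V : S.affineOpens) (U : X.affineOpens) (e : U.1 ≤ f ⁻¹ᵁ V.1)
    (O : S'.affineOpens) (hOV : O.1 ≤ g ⁻¹ᵁ V.1) :
    IsAffineOpen (u ⁻¹ᵁ U.1 ⊓ f' ⁻¹ᵁ O.1) ∧ Function.Bijective (φ.app (u ⁻¹ᵁ U.1 ⊓ f' ⁻¹ᵁ O.1)) := by
  let W : X'.Opens := u ⁻¹ᵁ U.1 ⊓ f' ⁻¹ᵁ O.1
  have hW : IsAffineOpen W := by
    haveI : IsAffine _ := V.2
    haveI : IsAffine _ := O.2
    haveI : IsAffine _ := U.2
    exact .of_isIso (Scheme.Hom.isPullback_resLE hsq hOV e (UY := W) rfl).isoPullback.hom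
  refine ⟨hW, ?_⟩
  have hpo := (isIso_pushoutSection_iff hsq hOV e (UY := W) rfl).mp
    (isIso_pushoutSection_of_isAffineOpen hsq hOV e rfl V.2 O.2 U.2)
  letI : Algebra Γ(S, V.1) Γ(X, U.1) := (f.appLE V.1 U.1 e).hom.toAlgebra
  letI : Algebra Γ(S, V.1) Γ(S', O.1) := (g.appLE V.1 O.1 hOV).hom.toAlgebra
  letI : Algebra Γ(X, U.1) Γ(X', W) := (u.appLE U.1 W inf_le_left).hom.toAlgebra
  letI : Algebra Γ(S', O.1) Γ(X', W) := (f'.appLE O.1 W inf_le_right).hom.toAlgebra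
  letI : Algebra Γ(S, V.1) Γ(X', W) := (f.appLE V.1 U.1 e ≫ u.appLE U.1 W inf_le_left).hom.toAlgebra
  haveI : IsScalarTower Γ(S, V.1) Γ(X, U.1) Γ(X', W) := .of_algebraMap_eq fun _ => rfl
  haveI : IsScalarTower Γ(S, V.1) Γ(S', O.1) Γ(X', W) := .of_algebraMap_eq fun r => congr($(hpo.w).hom r)
  haveI : Algebra.IsPushout Γ(S, V.1) Γ(S', O.1) Γ(X, U.1) Γ(X', W) :=
    CommRingCat.isPushout_iff_isPushout.mp hpo.flip
  obtain ⟨a, ha⟩ := PBAlg.main Γ(S, V.1) Γ(X, U.1) Γ(S', O.1) Γ(X', W) n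
  obtain ⟨E, hE⟩ := exists_sect f n V U e rfl
  obtain ⟨E', hE'⟩ := exists_sect f' n O ⟨W, hW⟩ inf_le_right rfl
  let N := (Scheme.Modules.pullback u).obj (PrinPart.P f n)
  letI : Module Γ(X, U.1) Γ(N, W) := Module.compHom _ (u.appLE U.1 W inf_le_left).hom
  haveI : IsScalarTower Γ(X, U.1) Γ(X', W) Γ(N, W) := .of_algebraMap_smul fun _ _ => rfl
  let l : Γ(PrinPart.P f n, U.1) →ₗ[Γ(X, U.1)] Γ(N, W) :=
    { toFun := QCoh.pullSec u (PrinPart.P f n) inf_le_left
      map_add' := QCoh.pullSec_add u (PrinPart.P f n) inf_le_left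
      map_smul' := fun r m => QCoh.pullSec_smul u (PrinPart.P f n) inf_le_left r m }
  have hb : IsBaseChange Γ(X', W) l :=
    QCoh.isBaseChange_pullback U.2 u hW (isQCoh_PMod f n QCoh.isQCoh_structureModule) inf_le_left
      (fun _ => rfl) l fun _ => rfl
  let L := (E.baseChange Γ(X, U.1) Γ(X', W) _ _).trans hb.equiv
  have hdn : ∀ b : Γ(X, U.1), φ.app W (l (PrinPart.dn f n U.1 b)) =
      PrinPart.dn f' n W (u.appLE U.1 W inf_le_left b) := by
    intro b
    show φ.app W (N.presheaf.map (homOfLE inf_le_left).op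
      (OmegaSh.pullSect u (PrinPart.P f n) U.1 (PrinPart.dn f n U.1 b))) = _
    rw [Nrm6.hom_app_res, hφ U.1 b]
    refine (PrinPart.dP_map f' n (Coh.structureModule X') (inf_le_left : W ≤ u ⁻¹ᵁ U.1) _).symm.trans ?_
    rfl
  have key : ∀ z, φ.app W (L z) = E' (a z) := by
    intro z
    induction z using TensorProduct.induction_on with
    | zero => simp
    | add x y hx hy => simp only [map_add, hx, hy]
    | tmul b' q =>
      obtain ⟨q, rfl⟩ := Ideal.Quotient.mk_surjective q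
      induction q using TensorProduct.induction_on with
      | zero => simp
      | add x y hx hy => simp only [map_add, TensorProduct.tmul_add, hx, hy]
      | tmul x y =>
        rw [ha, hE']
        show φ.app W (hb.equiv (b' ⊗ₜ E (Ideal.Quotient.mk _ (x ⊗ₜ y)))) = _
        rw [hE, IsBaseChange.equiv_tmul, map_smul l, ← IsScalarTower.algebraMap_smul Γ(X', W) x, smul_smul,
          Scheme.Modules.Hom.app_smul, hdn]
        rfl
  have hcomp : Function.Bijective (fun z => φ.app W (L z)) := by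
    rw [funext key]; exact E'.bijective.comp a.bijective
  exact (Function.Bijective.of_comp_iff _ L.bijective).1 hcomp

theorem isIso_pMap (hsq : IsPullback u f' f g) (n : ℕ)
    (φ : (Scheme.Modules.pullback u).obj (PrinPart.P f n) ⟶ PrinPart.P f' n)
    (hφ : PrinPart.IsPMap f f' u n φ) : IsIso φ := by
  have hM : Coh.IsQCoh ((Scheme.Modules.pullback u).obj (PrinPart.P f n)) :=
    QCoh.isQCoh_pullback u (isQCoh_PMod f n QCoh.isQCoh_structureModule)
  have hN : Coh.IsQCoh (PrinPart.P f' n) := isQCoh_PMod f' n QCoh.isQCoh_structureModule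
  have hcov : ∀ x' : X', ∃ (W : X'.Opens), x' ∈ W ∧ IsAffineOpen W ∧ Function.Bijective (φ.app W) := by
    intro x'
    obtain ⟨V, hV, hxV, -⟩ := exists_isAffineOpen_mem_and_subset (x := f (u x')) (U := ⊤) trivial
    obtain ⟨U, hU, hxU, hUV⟩ := exists_isAffineOpen_mem_and_subset (x := u x') (U := f ⁻¹ᵁ V) hxV
    have hxV' : f' x' ∈ g ⁻¹ᵁ V := by
      show g (f' x') ∈ V
      rw [show g (f' x') = f (u x') from congr($(hsq.w.symm) x')]
      exact hxV
    obtain ⟨O, hO, hxO, hOV⟩ := exists_isAffineOpen_mem_and_subset (x := f' x') (U := g ⁻¹ᵁ V) hxV'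
    obtain ⟨hW, hb⟩ := bijective_chart hsq n φ hφ ⟨V, hV⟩ ⟨U, hU⟩ hUV ⟨O, hO⟩ hOV
    exact ⟨u ⁻¹ᵁ U ⊓ f' ⁻¹ᵁ O, ⟨hxU, hxO⟩, hW, hb⟩
  choose W hxW hW hb using hcov
  have : Mono φ := by
    refine Preadditive.mono_of_kernel_zero ?_
    refine IsZero.eq_of_src (QCoh.isZero_of_cover (QCoh.isQCoh_kernel hM hN φ) W hW (fun x => ⟨x, hxW x⟩)
      fun i => subsingleton_of_forall_eq 0 fun z => ?_) _ _
    refine QCoh.app_injective (kernel.ι φ) _ ((hb i).1 ?_)
    have := congrArg (fun ψ => Scheme.Modules.Hom.app ψ (W i) z) (kernel.condition φ)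
    rw [map_zero, map_zero]
    exact this
  have : Epi φ := by
    refine Preadditive.epi_of_cokernel_zero ?_
    refine IsZero.eq_of_tgt (QCoh.isZero_of_cover (QCoh.isQCoh_cokernel hM hN φ) W hW (fun x => ⟨x, hxW x⟩)
      fun i => subsingleton_of_forall_eq 0 fun z => ?_) _ _
    obtain ⟨y, rfl⟩ := QCoh.app_surjective_of_epi hN (QCoh.isQCoh_cokernel hM hN φ)
      (cokernel.π φ) (hW i) z
    obtain ⟨w, rfl⟩ := (hb i).2 y
    exact congrArg (fun ψ => Scheme.Modules.Hom.app ψ (W i) w) (cokernel.condition φ)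
  exact isIso_of_mono_of_epi φ

end Groth.Agent.PPSheaf.PBase
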