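import Groth.Prelude.Def_OmegaPn
import Groth.Agent.KFlatLib.Scheme.ClosedPush
import Groth.Agent.KFlatLib.Scheme.ProjModule

/-! Pushforward along a homeomorphism commutes with colimits. -/

set_option linter.style.haveILetI false
set_option linter.unusedSectionVars false
set_option backward.isDefEq.respectTransparency false
set_option backward.isDefEq.respectTransparency.types false

universe w' w u

open CategoryTheory CategoryTheory.Limits AlgebraicGeometry TopologicalSpace Opposite

namespace Groth.Agent.PPSheaf

open Groth.Agent.KFlatLib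

/-- `pr₁` as a homeomorphism. -/
noncomputable def pr1Homeo {X S : Scheme.{u}} (f : X ⟶ S) (n : ℕ) : (PrinPart.nbhd f n : Scheme.{u}) ≃ₜ X where
  toFun := PrinPart.pr1 f n
  invFun := PrinPart.toNbhd f n
  left_inv z := by
    obtain ⟨y, rfl⟩ := PrinPart.toInfNbhd_surjective (PrinPart.diagCl f) n z
    rw [← Scheme.Hom.comp_apply (PrinPart.toNbhd f n) (PrinPart.pr1 f n), PrinPart.toNbhd_pr1]
    rfl
  right_inv x := by
    rw [← Scheme.Hom.comp_apply, PrinPart.toNbhd_pr1]; rfl
  continuous_toFun := (PrinPart.pr1 f n).continuous
  continuous_invFun := (PrinPart.toNbhd f n).continuous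

theorem preservesColimitsOfShape_push_homeo {X Y : Scheme.{u}} (f : X ⟶ Y)
    (h : Topology.IsInducing f) (hs : Function.Surjective f) (K : Type w) [Category.{w'} K]
    [HasColimitsOfShape K X.Modules] [HasColimitsOfShape K Y.Modules]
    [HasColimitsOfShape K Ab.{u}]
    [∀ x : X, PreservesColimitsOfShape K (stalkAb (X := X) x)]
    [∀ y : Y, PreservesColimitsOfShape K (stalkAb (X := Y) y)] :
    PreservesColimitsOfShape K (Scheme.Modules.pushforward f) where
  preservesColimit {F} := by
    haveI : IsIso (colimit.post F (Scheme.Modules.pushforward f)) := isIso_of_stalk _ fun y => by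
      let S := stalkAb (X := Y) y
      haveI : PreservesColimit F (Scheme.Modules.pushforward f ⋙ S) := by
        obtain ⟨x, rfl⟩ := hs y
        haveI : ∀ M : X.Modules, IsIso (TopCat.Presheaf.stalkPushforward Ab.{u} f.base M.presheaf x) := fun M =>
          TopCat.Presheaf.stalkPushforward.stalkPushforward_iso_of_isInducing Ab.{u} h M.presheaf x
        exact preservesColimit_of_natIso F (NatIso.ofComponents
          (fun M => asIso (TopCat.Presheaf.stalkPushforward Ab.{u} f.base M.presheaf x))
          fun {M N} φ => stalkPushforward_naturality' f.base ((toAb X ⋙ TopCat.Sheaf.forget _ _).map φ) x :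
          Scheme.Modules.pushforward f ⋙ stalkAb (X := Y) (f.base x) ≅ stalkAb (X := X) x).symm
      haveI : IsIso (colimit.post (F ⋙ Scheme.Modules.pushforward f) S ≫
          S.map (colimit.post F (Scheme.Modules.pushforward f))) := by
        rw [colimit.post_post F (Scheme.Modules.pushforward f) S]
        exact (inferInstance : IsIso (colimit.post F (Scheme.Modules.pushforward f ⋙ S)))
      have h : IsIso (S.map (colimit.post F (Scheme.Modules.pushforward f))) :=
        IsIso.of_isIso_comp_left (colimit.post (F ⋙ Scheme.Modules.pushforward f) S) _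
      exact @isIso_of_reflects_iso _ _ _ _ _ _ _
        (forget₂ (ModuleCat (Y.presheaf.stalk y)) AddCommGrpCat) h _
    exact preservesColimit_of_isIso_post _ F

theorem preservesColimits_pr1 {X S : Scheme.{u}} (f : X ⟶ S) (n : ℕ) :
    PreservesColimitsOfSize.{u, u} (Scheme.Modules.pushforward (PrinPart.pr1 f n)) :=
  ⟨fun {K} _ => preservesColimitsOfShape_push_homeo _ (pr1Homeo f n).isInducing (pr1Homeo f n).surjective K⟩

end Groth.Agent.PPSheaf
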