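import Groth.Agent.PPSheaf.Gen
import Groth.Agent.Synt29.ConormalBC

/-! Restriction of principal parts to a closed subscheme. -/

set_option linter.style.haveILetI false
set_option linter.unusedSectionVars false
set_option backward.isDefEq.respectTransparency false
set_option backward.isDefEq.respectTransparency.types false
set_option autoImplicit false

universe u

open CategoryTheory CategoryTheory.Limits AlgebraicGeometry TopologicalSpace Opposite

namespace Groth.Agent.PPSheaf.Restr

open Groth.Agent.Synt29 OmegaStalk ConormalStalk ConormalExact ConormalSeq ConormalBC Groth.Agent.KFlatLib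

/-- Epimorphy for maps out of a pullback sending `d^n` to `d^n`, `j` surjective on stalks. -/
theorem epi_of_isPMap {X Y S S' : Scheme.{u}} (f : Y ⟶ S) (f' : X ⟶ S') (j : X ⟶ Y) (n : ℕ)
    (hj : ∀ x : X, Function.Surjective (j.stalkMap x))
    (φ : (Scheme.Modules.pullback j).obj (PrinPart.P f n) ⟶ PrinPart.P f' n)
    (hφ : PrinPart.IsPMap f f' j n φ) :
    Epi φ := by
  rw [epi_iff_stalk]
  intro x z
  obtain ⟨U, hU, σ, rfl⟩ := gm_surjective _ z
  obtain ⟨V, hVU, hxV, hmem⟩ := exists_mem_span f' n (Coh.structureModule X) U σ x hU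
  rw [← gm_res _ (homOfLE hVU) hxV]
  let T := LinearMap.range ((DerSch.stalkFunctor X x).map φ).hom
  suffices key : ∀ w ∈ Submodule.span Γ(X, V) (Set.range (PrinPart.dP f' n (Coh.structureModule X) V)),
      gm (PrinPart.P f' n) hxV w ∈ T from key _ hmem
  intro w hw
  induction hw using Submodule.span_induction with
  | mem y hy =>
    obtain ⟨t, rfl⟩ := hy
    obtain ⟨b, rfl⟩ : ∃ b : Γ(X, V), OmegaSh.strSect X V b = t := ⟨t, rfl⟩
    obtain ⟨r, hr⟩ := hj x (X.presheaf.germ V x hxV b)
    obtain ⟨W, hW, b₀, rfl⟩ := Y.presheaf.exists_germ_eq r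
    rw [Scheme.Hom.germ_stalkMap_apply] at hr
    obtain ⟨V', hxV', i₁, i₂, hb⟩ := X.presheaf.germ_eq x (show x ∈ j ⁻¹ᵁ W from hW) hxV _ _ hr
    have e1 : gm (PrinPart.P f' n) hxV (PrinPart.dn f' n V b) =
        gm (PrinPart.P f' n) (show x ∈ j ⁻¹ᵁ W from hW) (PrinPart.dn f' n (j ⁻¹ᵁ W) (j.app W b₀)) := by
      rw [← gm_res _ i₂ hxV', ← gm_res _ i₁ hxV']
      congr 1
      show (PrinPart.P f' n).presheaf.map i₂.op (PrinPart.dP f' n _ V _) =
        (PrinPart.P f' n).presheaf.map i₁.op (PrinPart.dP f' n _ _ _)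
      rw [Subsingleton.elim i₁ (homOfLE i₁.le), Subsingleton.elim i₂ (homOfLE i₂.le),
        ← PrinPart.dP_map, ← PrinPart.dP_map]
      congr 1
      exact hb.symm
    show gm (PrinPart.P f' n) hxV (PrinPart.dn f' n V b) ∈ T
    rw [e1]
    refine ⟨gm _ (show x ∈ j ⁻¹ᵁ W from hW) (OmegaSh.pullSect j (PrinPart.P f n) W (PrinPart.dn f n W b₀)), ?_⟩
    exact (DerSch.stalkFunctor_map_germ x _ _ _ _).trans (congrArg _ (hφ W b₀))
  | zero => rw [map_zero]; exact zero_mem _
  | add a b _ _ ha hb => rw [map_add]; exact add_mem ha hb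
  | smul c a _ ha => rw [gm_smul]; exact Submodule.smul_mem _ _ ha

end Groth.Agent.PPSheaf.Restr
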